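import Cfsg.Agent.Lib.Small.AltEightSubgroups
import Cfsg.Agent.Lib.Recog.Icosahedral

/-!
# Nonsolvable subgroups of `A₈` without a normal two-subgroup
-/

set_option autoImplicit false

namespace Cfsg.Lib.Small.SecRankFour

open Subgroup
open Cfsg.Lib.Small.AltEight Cfsg.Lib.Small

/-- An element commuting with an odd permutation has centraliser of index two in the symmetric one. -/
theorem two_mul_card_centralizer {n : ℕ} (x : ↥(alternatingGroup (Fin n))) (τ : Equiv.Perm (Fin n))
    (hτ : Equiv.Perm.sign τ = -1) (hc : Commute τ x.1) :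
    2 * Nat.card ↥(centralizer {x}) = Nat.card ↥(centralizer {x.1}) := by
  classical
  let s : ↥(centralizer {x.1}) →* ℤˣ := Equiv.Perm.sign.comp (centralizer {x.1}).subtype
  have hs : Nat.card s.range = 2 := by
    have h : Function.Surjective s := fun u => by
      rcases Int.units_eq_one_or u with rfl | rfl
      · exact ⟨1, map_one s⟩
      · exact ⟨⟨τ, mem_centralizer_singleton_iff.2 hc.eq⟩, hτ⟩
    rw [MonoidHom.range_eq_top.2 h, card_top, Nat.card_eq_fintype_card]
    rfl
  let e : ↥(centralizer {x}) ≃ s.ker :=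
    { toFun := fun k => ⟨⟨k.1.1, mem_centralizer_singleton_iff.2
        (congrArg Subtype.val (mem_centralizer_singleton_iff.1 k.2))⟩, MonoidHom.mem_ker.2 k.1.2⟩
      invFun := fun k => ⟨⟨k.1.1, MonoidHom.mem_ker.1 k.2⟩, mem_centralizer_singleton_iff.2
        (Subtype.ext (mem_centralizer_singleton_iff.1 k.1.2))⟩
      left_inv := fun k => rfl
      right_inv := fun k => rfl }
  have h2 := card_mul_index s.ker
  rw [index_ker, hs] at h2
  rw [Nat.card_congr e, ← h2, mul_comm]

/-- A swap of two fixed points commutes with a permutation. -/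
theorem exists_odd_commute_of_fixed {n : ℕ} {σ : Equiv.Perm (Fin n)} (h : σ.support.card + 2 ≤ n) :
    ∃ τ : Equiv.Perm (Fin n), Equiv.Perm.sign τ = -1 ∧ Commute τ σ := by
  classical
  obtain ⟨a, ha, b, hb, hab⟩ := Finset.one_lt_card.1 (show 1 < σ.supportᶜ.card by
    rw [Finset.card_compl, Fintype.card_fin]; omega)
  refine ⟨Equiv.swap a b, Equiv.Perm.sign_swap hab, Equiv.Perm.Disjoint.commute fun c => ?_⟩
  by_cases hc : c ∈ σ.support
  · left
    refine Equiv.swap_apply_of_ne_of_ne (fun e => ?_) fun e => ?_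
    · exact Finset.mem_compl.1 ha (e ▸ hc)
    · exact Finset.mem_compl.1 hb (e ▸ hc)
  · exact Or.inr (Equiv.Perm.notMem_support.1 hc)

theorem cycleType_five {y : A8} (hy : orderOf y = 5) : y.1.cycleType = {5} := by
  classical
  have hσ : orderOf y.1 = 5 := by rw [Subgroup.orderOf_coe, hy]
  obtain ⟨n, hn⟩ := Equiv.Perm.cycleType_prime_order (σ := y.1) (by rw [hσ]; norm_num)
  rw [hσ] at hn
  have hle := y.1.support.card_le_univ
  rw [← Equiv.Perm.sum_cycleType, hn, Multiset.sum_replicate, smul_eq_mul, Fintype.card_fin] at hle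
  obtain rfl : n = 0 := by omega
  rw [hn, Multiset.replicate_one]

theorem card_centralizer_five {y : A8} (hy : orderOf y = 5) : Nat.card ↥(centralizer {y}) = 15 := by
  classical
  have hn := cycleType_five hy
  obtain ⟨τ, h1, h2⟩ := exists_odd_commute_of_fixed (σ := y.1)
    (by rw [← Equiv.Perm.sum_cycleType, hn, Multiset.sum_singleton]; norm_num)
  have h := two_mul_card_centralizer y τ h1 h2
  have h30 : Nat.card ↥(centralizer {y.1}) = 30 := by
    rw [Equiv.Perm.nat_card_centralizer, hn]; decide
  exact Nat.eq_of_mul_eq_mul_left two_pos (h.trans h30)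

theorem card_centralizer_seven {x : A8} (hx : orderOf x = 7) : Nat.card ↥(centralizer {x}) ∣ 7 := by
  classical
  have hσ : orderOf x.1 = 7 := by rw [Subgroup.orderOf_coe, hx]
  obtain ⟨n, hn⟩ := Equiv.Perm.cycleType_prime_order (σ := x.1) (by rw [hσ]; norm_num)
  rw [hσ] at hn
  have hle := x.1.support.card_le_univ
  rw [← Equiv.Perm.sum_cycleType, hn, Multiset.sum_replicate, smul_eq_mul, Fintype.card_fin] at hle
  obtain rfl : n = 0 := by omega
  have h7 : Nat.card ↥(centralizer {x.1}) = 7 := by
    rw [Equiv.Perm.nat_card_centralizer, hn]; decide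
  rw [← h7]
  exact card_dvd_of_injective ((alternatingGroup (Fin 8)).subtype.comp (centralizer {x}).subtype
    |>.codRestrict _ fun k => mem_centralizer_singleton_iff.2
      (congrArg Subtype.val (mem_centralizer_singleton_iff.1 k.2)))
    (fun a b h => Subtype.ext (Subtype.ext
      (congrArg (fun k : ↥(centralizer {x.1}) => (k : Equiv.Perm (Fin 8))) h)))

theorem card_centralizer_three {m y : A8} (hm : orderOf m = 3) (hy : orderOf y = 5) (hc : Commute m y) :
    Nat.card ↥(centralizer {m}) = 180 := by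
  classical
  have hσ : orderOf m.1 = 3 := by rw [Subgroup.orderOf_coe, hm]
  obtain ⟨n, hn⟩ := Equiv.Perm.cycleType_prime_order (σ := m.1) (by rw [hσ]; norm_num)
  rw [hσ] at hn
  have hle := m.1.support.card_le_univ
  rw [← Equiv.Perm.sum_cycleType, hn, Multiset.sum_replicate, smul_eq_mul, Fintype.card_fin] at hle
  have hn2 : n = 0 ∨ n = 1 := by omega
  rcases hn2 with rfl | rfl
  · obtain ⟨τ, h1, h2⟩ := exists_odd_commute_of_fixed (σ := m.1)
      (by rw [← Equiv.Perm.sum_cycleType, hn, Multiset.sum_replicate]; norm_num)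
    have h := two_mul_card_centralizer m τ h1 h2
    have h360 : Nat.card ↥(centralizer {m.1}) = 360 := by
      rw [Equiv.Perm.nat_card_centralizer, hn]; decide
    exact Nat.eq_of_mul_eq_mul_left two_pos (h.trans h360)
  · exfalso
    have h36 : Nat.card ↥(centralizer {m.1}) = 36 := by
      rw [Equiv.Perm.nat_card_centralizer, hn]; decide
    have hmem : y.1 ∈ centralizer {m.1} :=
      mem_centralizer_singleton_iff.2 (congrArg Subtype.val hc.eq.symm)
    have h := Subgroup.orderOf_dvd_natCard _ hmem
    rw [Subgroup.orderOf_coe, hy, h36] at h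
    norm_num at h

/-- A nonsolvable group of order sixty is simple. -/
theorem isSimple_of_card_sixty {H : Type*} [Group H] [Finite H] (hns : ¬ Group.IsSolvable H)
    (h : Nat.card H = 60) : IsSimpleGroup H := by
  haveI : Nontrivial H := Finite.one_lt_card_iff_nontrivial.1 (by omega)
  refine ⟨fun N hN => ?_⟩
  by_contra hcon
  push Not at hcon
  haveI := hN
  have hmul := card_mul_index N
  have h1 : 1 < Nat.card N := N.one_lt_card_iff_ne_bot.2 hcon.1
  have h2 : 1 < N.index := N.one_lt_index_of_ne_top hcon.2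
  haveI := Cfsg.Lib.Recog.Icosa.solvable_of_lt_sixty _ N rfl (by nlinarith)
  haveI := Cfsg.Lib.Recog.Icosa.solvable_of_lt_sixty _ (H ⧸ N) rfl
    (by rw [← index_eq_card]; nlinarith)
  exact hns (Group.isSolvable_of_ker_le_range N.subtype (QuotientGroup.mk' N)
    (by rw [QuotientGroup.ker_mk', range_subtype]))

theorem eq_three_of_dvd {a : ℕ} {q : ℕ} (hq : q.Prime) (h15 : a ∣ 15) (ha : ∃ j, a = q ^ j)
    (h1 : 1 < a) : a = q := by
  obtain ⟨j, rfl⟩ := ha
  rcases j with _ | _ | j
  · simp at h1
  · exact pow_one q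
  · exfalso
    have h2 : q ^ 2 ∣ 15 := (pow_dvd_pow q (by omega)).trans h15
    have h3 := Nat.le_of_dvd (by norm_num) h2
    have : q ≤ 3 := by nlinarith
    interval_cases q <;> simp_all (config := {decide := true})

variable {Q : Type*} [Group Q] [Finite Q]

theorem exists_abelian_normal {K : Subgroup Q} (hK : K.Normal) (hne : K ≠ ⊥) (hs : Group.IsSolvable K) :
    ∃ (q : ℕ) (M : Subgroup Q), q.Prime ∧ M.Normal ∧ M ≠ ⊥ ∧ IsMulCommutative M ∧ IsPGroup q M := by
  classical
  obtain ⟨n, hn⟩ := hs.solvable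
  have hex : ∃ n, derivedSeries K n = ⊥ := ⟨n, hn⟩
  obtain ⟨k, hk⟩ : ∃ k, Nat.find hex = k + 1 := by
    refine Nat.exists_eq_succ_of_ne_zero fun h0 => hne ?_
    have := Nat.find_spec hex
    rw [h0, derivedSeries_zero] at this
    exact eq_bot_iff.2 fun x hx => by
      have : (⟨x, hx⟩ : K) ∈ (⊥ : Subgroup K) := this ▸ mem_top _
      exact congrArg Subtype.val (mem_bot.1 this)
  set A : Subgroup K := derivedSeries K k with hA
  have hAne : A ≠ ⊥ := fun h => by have := Nat.find_min' hex h; omega
  haveI hAc : IsMulCommutative A := ⟨⟨fun a b => by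
    have h1 : ⁅A, A⁆ = ⊥ := by
      rw [hA, ← derivedSeries_succ, ← hk]
      exact Nat.find_spec hex
    exact Subtype.ext (mem_centralizer_iff.1 (commutator_eq_bot_iff_le_centralizer.1 h1 b.2) _ a.2)⟩⟩
  haveI : K.Normal := hK
  haveI : A.Characteristic := derivedSeries_characteristic K k
  set A' := A.map K.subtype with hA'
  haveI hA'n : A'.Normal := inferInstance
  haveI : IsMulCommutative A' := map_isMulCommutative A K.subtype
  have hA'ne : A' ≠ ⊥ := fun h => hAne (map_eq_bot_iff_of_injective A K.subtype_injective |>.1 h)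
  obtain ⟨q, hq, hqd⟩ := Nat.exists_prime_and_dvd (n := Nat.card A')
    (fun h => hA'ne ((Subgroup.card_eq_one).1 h))
  haveI := Fact.mk hq
  obtain ⟨P⟩ : Nonempty (Sylow q A') := inferInstance
  haveI : (P : Subgroup A').Normal := ⟨fun n hn g => by
    rwa [mul_comm' g n, mul_inv_cancel_right]⟩
  haveI : (P : Subgroup A').Characteristic := Sylow.characteristic_of_normal P inferInstance
  refine ⟨q, (P : Subgroup A').map A'.subtype, hq, inferInstance, ?_, map_isMulCommutative _ _,
    P.isPGroup'.map _⟩
  exact fun h => P.ne_bot_of_dvd_card hqd ((map_eq_bot_iff_of_injective _ A'.subtype_injective).1 h)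

theorem primeFactors_A8 {q : ℕ} (hq : q.Prime) (h : q ∣ 20160) : q = 2 ∨ q = 3 ∨ q = 5 ∨ q = 7 := by
  have hp3 : q ∣ 2 ^ 6 * (3 ^ 2 * (5 * 7)) := h
  rcases hq.dvd_mul.1 hp3 with h | h
  · exact Or.inl ((Nat.prime_dvd_prime_iff_eq hq Nat.prime_two).1 (hq.dvd_of_dvd_pow h))
  rcases hq.dvd_mul.1 h with h | h
  · exact Or.inr (Or.inl ((Nat.prime_dvd_prime_iff_eq hq Nat.prime_three).1 (hq.dvd_of_dvd_pow h)))
  rcases hq.dvd_mul.1 h with h | h
  · exact Or.inr (Or.inr (Or.inl ((Nat.prime_dvd_prime_iff_eq hq (by norm_num)).1 h)))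
  · exact Or.inr (Or.inr (Or.inr ((Nat.prime_dvd_prime_iff_eq hq (by norm_num)).1 h)))

/-- An element of prime order five or seven centralises a normal subgroup of order dividing nine. -/
theorem centralizes_of_dvd_nine {p : ℕ} (hp : p = 5 ∨ p = 7) {M : Subgroup Q} (hM : M.Normal)
    (h1 : 1 < Nat.card M) (h9 : Nat.card M ∣ 9) {z : Q} (hz : orderOf z = p) :
    z ∈ centralizer (M : Set Q) := by
  classical
  haveI := hM
  haveI : Fact p.Prime := ⟨by rcases hp with rfl | rfl <;> norm_num⟩
  letI : MulAction ↥(zpowers z) M :=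
    MulAction.compHom M ((MulAut.conjNormal : Q →* MulAut M).comp (zpowers z).subtype)
  set F := centralizer {z} ⊓ M with hF
  have hFd : Nat.card F ∣ 9 := (card_dvd_of_le inf_le_right).trans h9
  have hmod : Nat.card M ≡ Nat.card F [MOD p] := by
    refine ((IsPGroup.of_card (n := 1) (by rw [Nat.card_zpowers, hz, pow_one]) :
      IsPGroup p ↥(zpowers z)).card_modEq_card_fixedPoints M).trans (congrArg (· % p) ?_)
    refine Nat.card_congr
      { toFun := fun s => ⟨s.1.1, ?_, s.1.2⟩
        invFun := fun s => ⟨⟨s.1, s.2.2⟩, fun w => ?_⟩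
        left_inv := fun s => rfl
        right_inv := fun s => rfl }
    · refine mem_centralizer_singleton_iff.2 ?_
      have h := congrArg Subtype.val (s.2 ⟨z, mem_zpowers z⟩)
      change z * s.1.1 * z⁻¹ = s.1.1 at h
      rw [mul_inv_eq_iff_eq_mul] at h
      exact h.symm
    · refine Subtype.ext ?_
      show w.1 * s.1 * w.1⁻¹ = s.1
      have hc : Commute s.1 z := mem_centralizer_singleton_iff.1 s.2.1
      obtain ⟨k, hk⟩ := mem_zpowers_iff.1 w.2
      rw [← hk, mul_inv_eq_iff_eq_mul]
      exact (hc.zpow_right k).eq.symm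
  have hFM : Nat.card F = Nat.card M := by
    have ha := Nat.mem_divisors.2 ⟨h9, by norm_num⟩
    have hb := Nat.mem_divisors.2 ⟨hFd, by norm_num⟩
    have hle := Nat.le_of_dvd Nat.card_pos (card_dvd_of_le (inf_le_right : F ≤ M))
    rw [show Nat.divisors 9 = {1, 3, 9} from by decide] at ha hb
    simp only [Finset.mem_insert, Finset.mem_singleton] at ha hb
    unfold Nat.ModEq at hmod
    rcases hp with rfl | rfl <;> omega
  have hFe : F = M := eq_of_le_of_card_ge inf_le_right hFM.ge
  exact mem_centralizer_iff.2 fun s hs => by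
    rw [← hFe] at hs
    exact mem_centralizer_singleton_iff.1 hs.1

/-- An abelian normal `q`-subgroup has order three and is centralised by an element of order five. -/
theorem card_three (hns : ¬ Group.IsSolvable Q) (hO2 : Cfsg.pCore 2 Q = ⊥) {f : Q →* A8}
    (hf : Function.Injective f) {q : ℕ} {M : Subgroup Q} (hq : q.Prime) (hM : M.Normal)
    (hne : M ≠ ⊥) (hab : IsMulCommutative M) (hp : IsPGroup q M) :
    Nat.card M = 3 ∧ ¬ Group.IsSolvable ↥(centralizer (M : Set Q)) ∧
      ∃ y ∈ centralizer (M : Set Q), orderOf y = 5 := by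
  classical
  haveI := Fact.mk hq
  haveI := hM
  haveI := hab
  have h1 : 1 < Nat.card M := M.one_lt_card_iff_ne_bot.2 hne
  obtain ⟨j, hj⟩ := hp.exists_card_eq
  have hqM : q ∣ Nat.card M := by
    rcases j with _ | j
    · rw [hj] at h1; simp at h1
    · rw [hj]; exact dvd_pow_self q j.succ_ne_zero
  have hqd := primeFactors_A8 hq (hqM.trans ((card_subgroup_dvd_card M).trans (card_dvd hf)))
  have hbound : ∀ (x : A8) (S : Subgroup Q), (∀ s ∈ S, Commute (f s) x) →
      Nat.card S ∣ Nat.card ↥(centralizer {x}) := fun x S hS =>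
    card_dvd_of_injective ((f.comp S.subtype).codRestrict _ fun s =>
        mem_centralizer_singleton_iff.2 (hS s.1 s.2).eq)
      fun a b h => Subtype.ext (hf (congrArg Subtype.val h))
  have hcyc : Nat.card M = q → Group.IsSolvable ↥(centralizer (M : Set Q)) → False := fun hMq hs => by
    haveI := hs
    haveI : IsCyclic M := isCyclic_of_prime_card hMq
    haveI : Group.IsSolvable (MulAut M) := by
      refine Cfsg.Lib.Recog.Icosa.solvable_of_lt_sixty _ _ rfl ?_
      rw [IsCyclic.card_mulAut, hMq]
      rcases hqd with rfl | rfl | rfl | rfl <;> decide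
    refine hns (Group.isSolvable_of_ker_le_range (centralizer (M : Set Q)).subtype
      (MulAut.conjNormal : Q →* MulAut M) fun x hx => ?_)
    rw [range_subtype]
    refine mem_centralizer_iff.2 fun s hs => ?_
    have h := congrArg (fun a : MulAut M => ((a ⟨s, hs⟩ : M) : Q)) (MonoidHom.mem_ker.1 hx)
    simp only [MulAut.conjNormal_apply, MulAut.one_apply] at h
    rw [mul_inv_eq_iff_eq_mul] at h
    exact h.symm
  obtain ⟨m, hm⟩ := exists_prime_orderOf_dvd_card' (G := M) q hqM
  have hfm : orderOf (f m.1) = q := by rw [orderOf_map f hf, Subgroup.orderOf_coe, hm]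
  have hMm : ∀ s ∈ M, Commute (f s) (f m.1) := fun s hs =>
    (show Commute s m.1 from congrArg Subtype.val (mul_comm' (⟨s, hs⟩ : M) m)).map f
  have hCm : ∀ s ∈ centralizer (M : Set Q), Commute (f s) (f m.1) := fun s hs =>
    (show Commute s m.1 from (mem_centralizer_iff.1 hs _ m.2).symm).map f
  rcases hqd with rfl | rfl | rfl | rfl
  · exact absurd (le_bot_iff.1 ((Cfsg.Lib.Core.le_pCore hp).trans hO2.le)) hne
  · have h9 : Nat.card M ∣ 9 := by
      have h := (card_subgroup_dvd_card M).trans (card_dvd hf)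
      rw [hj] at h ⊢
      have : j ≤ 2 := by
        by_contra hj3
        exact absurd ((pow_dvd_pow 3 (show 3 ≤ j by omega)).trans h) (by norm_num)
      exact pow_dvd_pow 3 this
    have h5 : 5 ∣ Nat.card Q := by
      rcases exists_five_or_seven hns hf with h | h
      · exact h
      exfalso
      haveI : Fact (Nat.Prime 7) := ⟨by norm_num⟩
      obtain ⟨z, hz⟩ := exists_prime_orderOf_dvd_card' (G := Q) 7 h
      have hzC := centralizes_of_dvd_nine (Or.inr rfl) hM h1 h9 hz
      have h3 := (hbound (f z) M fun s hs => (show Commute s z from mem_centralizer_iff.1 hzC s hs).map f).trans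
        (card_centralizer_seven (x := f z) (by rw [orderOf_map f hf, hz]))
      have := hqM.trans h3
      norm_num at this
    haveI : Fact (Nat.Prime 5) := ⟨by norm_num⟩
    obtain ⟨y, hy⟩ := exists_prime_orderOf_dvd_card' (G := Q) 5 h5
    have hyC := centralizes_of_dvd_nine (Or.inl rfl) hM h1 h9 hy
    have h15 := hbound (f y) M fun s hs => (show Commute s y from mem_centralizer_iff.1 hyC s hs).map f
    rw [card_centralizer_five (by rw [orderOf_map f hf, hy])] at h15
    have hM3 := eq_three_of_dvd hq h15 ⟨j, hj⟩ h1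
    exact ⟨hM3, hcyc hM3, y, hyC, hy⟩
  · exfalso
    have hd := hbound _ M hMm
    have hC := hbound _ _ hCm
    rw [card_centralizer_five hfm] at hd hC
    exact hcyc (eq_three_of_dvd hq hd ⟨j, hj⟩ h1)
      (Cfsg.Lib.Recog.Icosa.solvable_of_lt_sixty _ _ rfl ((Nat.le_of_dvd (by norm_num) hC).trans_lt (by norm_num)))
  · exfalso
    have hd := (hbound _ M hMm).trans (card_centralizer_seven hfm)
    have hC := (hbound _ _ hCm).trans (card_centralizer_seven hfm)
    exact hcyc ((Nat.dvd_prime hq).1 hd |>.resolve_left (by omega))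
      (Cfsg.Lib.Recog.Icosa.solvable_of_lt_sixty _ _ rfl ((Nat.le_of_dvd (by norm_num) hC).trans_lt (by norm_num)))

/-- A group of order `60` or `120` over a simple subgroup of order sixty with trivial centraliser. -/
theorem five_or_sym {K : Type*} [Group K] [Finite K] {N : Subgroup K} (hN : N.Normal)
    (hns : ¬ Group.IsSolvable N) (h : Nat.card N = 60) (hi : N.index ∣ 2)
    (hC : centralizer (N : Set K) = ⊥) :
    Cfsg.pCore 3 K = ⊥ ∧
      (Nonempty (K ≃* ↥(alternatingGroup (Fin 5))) ∨ Nonempty (K ≃* Equiv.Perm (Fin 5))) := by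
  classical
  haveI := hN
  haveI := isSimple_of_card_sixty hns h
  constructor
  · haveI : Fact (Nat.Prime 3) := ⟨Nat.prime_three⟩
    set P := Cfsg.pCore 3 K with hPdef
    haveI hPn : P.Normal := inferInstance
    rcases (inferInstance : (P.subgroupOf N).Normal).eq_bot_or_eq_top with e | e
    · refine le_bot_iff.1 (le_trans (fun x hx => mem_centralizer_iff.2 fun n hn => ?_) hC.le)
      rw [subgroupOf_eq_bot] at e
      exact (commute_of_normal_of_disjoint P N hPn hN e x n hx hn).eq.symm
    · exfalso
      rw [subgroupOf_eq_top] at e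
      obtain ⟨j, hj⟩ := ((Cfsg.Lib.Core.pCore_isPGroup 3 K).to_le e).exists_card_eq
      rw [h] at hj
      have h2 : 2 ∣ 3 ^ j := hj ▸ (by norm_num : 2 ∣ 60)
      exact absurd (Nat.prime_two.dvd_of_dvd_pow h2) (by norm_num)
  obtain ⟨e5⟩ := Cfsg.Agent.S0494.result h
  let eP : Equiv.Perm (Fin 5) ≃* MulAut (alternatingGroup (Fin 5)) :=
    MulEquiv.ofBijective _ (Cfsg.Agent.S2119.result 5 (by norm_num) (by norm_num))
  let φ : K →* Equiv.Perm (Fin 5) :=
    eP.symm.toMonoidHom.comp ((MulAut.congr e5).toMonoidHom.comp MulAut.conjNormal)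
  have hcj : Function.Injective (MulAut.conjNormal : K →* MulAut N) :=
    (injective_iff_map_eq_one _).2 fun x hx => by
      have : x ∈ centralizer (N : Set K) := mem_centralizer_iff.2 fun n hn => by
        have h := congrArg (fun a : MulAut N => ((a ⟨n, hn⟩ : N) : K)) hx
        simp only [MulAut.conjNormal_apply, MulAut.one_apply] at h
        rw [mul_inv_eq_iff_eq_mul] at h
        exact h.symm
      rwa [hC, mem_bot] at this
  have hφ : Function.Injective φ := eP.symm.injective.comp ((MulAut.congr e5).injective.comp hcj)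
  have hmul := card_mul_index N
  rw [h] at hmul
  rcases (Nat.dvd_prime Nat.prime_two).1 hi with h1 | h1
  · rw [index_eq_one] at h1
    exact Or.inl ⟨(topEquiv.symm.trans (MulEquiv.subgroupCongr h1.symm)).trans e5⟩
  · refine Or.inr ⟨MulEquiv.ofBijective φ ((Nat.bijective_iff_injective_and_card φ).2 ⟨hφ, ?_⟩)⟩
    rw [← hmul, h1, Nat.card_perm, Nat.card_fin]
    rfl

/-- Subgroups of odd order of `A₈` are solvable. -/
theorem solvable_of_odd : ∀ (n : ℕ) (G : Type*) [Group G] [Finite G] (f : G →* A8),
    Function.Injective f → Nat.card G = n → Odd n → Group.IsSolvable G := by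
  intro n
  induction n using Nat.strong_induction_on with
  | h n ih =>
  intro G _ _ f hf hn hodd
  rcases subsingleton_or_nontrivial G with hs | hnt
  · exact isSolvable_of_comm fun a b => Subsingleton.elim _ _
  by_cases hsimple : IsSimpleGroup G
  · by_cases hab : IsMulCommutative G
    · exact isSolvable_of_comm hab.is_comm.comm
    · exfalso
      rw [Nat.odd_iff] at hodd
      rcases simple_orders hab hf with h | h | h | h | h <;> omega
  · obtain ⟨N, hN, hNb, hNt⟩ : ∃ N : Subgroup G, N.Normal ∧ N ≠ ⊥ ∧ N ≠ ⊤ := by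
      by_contra hno
      push Not at hno
      exact hsimple ⟨fun H hH => or_iff_not_imp_left.2 (hno H hH)⟩
    haveI := hN
    have hmul := card_mul_index N
    have h1 : 1 < Nat.card N := N.one_lt_card_iff_ne_bot.2 hNb
    have h2 : 1 < N.index := N.one_lt_index_of_ne_top hNt
    rw [hn] at hmul
    haveI := ih _ (hmul ▸ (Nat.lt_mul_iff_one_lt_right (by omega)).2 h2) N (f.comp N.subtype)
      (hf.comp N.subtype_injective) rfl (hodd.of_dvd_nat ⟨_, hmul.symm⟩)
    haveI : Group.IsSolvable (G ⧸ N) := by
      by_contra h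
      have hn315 : n ∣ 315 :=
        ((Nat.coprime_two_right.2 hodd).pow_right 6).dvd_of_dvd_mul_left
          (show n ∣ 2 ^ 6 * 315 from hn ▸ card_dvd hf)
      have h3 : 3 ≤ Nat.card N := by
        have := Nat.odd_iff.1 (hodd.of_dvd_nat ⟨_, hmul.symm⟩ : Odd (Nat.card N))
        omega
      have h60 : 60 ≤ N.index := by
        by_contra hlt
        exact h (Cfsg.Lib.Recog.Icosa.solvable_of_lt_sixty _ _ rfl (by rw [← index_eq_card]; omega))
      have hdi : N.index ∣ 315 := (Dvd.intro_left _ hmul).trans hn315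
      have hle : N.index ≤ 105 := by
        have := Nat.le_of_dvd (by norm_num) hn315
        nlinarith
      have hcases : N.index = 63 ∨ N.index = 105 := by
        have hdec : ∀ k ∈ Nat.divisors 315, k ≤ 105 → 60 ≤ k → k = 63 ∨ k = 105 := by decide +kernel
        exact hdec _ (Nat.mem_divisors.2 ⟨hdi, by norm_num⟩) hle h60
      rw [index_eq_card] at hcases
      haveI : Nontrivial (G ⧸ N) := Finite.one_lt_card_iff_nontrivial.1 (by omega)
      by_cases hsq : IsSimpleGroup (G ⧸ N)
      · have hcy : ¬ IsCyclic (G ⧸ N) := fun hc => h (by letI := hc.commGroup; exact isSolvable_of_comm mul_comm)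
        rcases hcases with e | e
        · have := Cfsg.Lib.OrderLeHundred.card_eq_sixty hcy (by omega)
          omega
        · haveI : Fact (Nat.Prime 7) := ⟨by norm_num⟩
          obtain ⟨P⟩ : Nonempty (Sylow 7 (G ⧸ N)) := inferInstance
          have hP : Nat.card (P : Subgroup (G ⧸ N)) = 7 := by
            rw [card_sylow 1 15 (by rw [e]; norm_num) (by norm_num) P, pow_one]
          obtain ⟨hd, hmod⟩ := sylow_facts (p := 7) (G := G ⧸ N) 1 15 (by rw [e]; norm_num) (by norm_num)
          have hnz : Nat.card (Sylow 7 (G ⧸ N)) = 1 ∨ Nat.card (Sylow 7 (G ⧸ N)) = 15 := by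
            have hdec : ∀ k ∈ Nat.divisors 15, k % 7 = 1 → k = 1 ∨ k = 15 := by decide
            exact hdec _ (Nat.mem_divisors.2 ⟨hd, by norm_num⟩) hmod
          have hPne : (P : Subgroup (G ⧸ N)) ≠ ⊥ := fun h0 => by
            rw [h0, card_bot] at hP; norm_num at hP
          rcases hnz with h1 | h1
          · haveI := (Nat.card_eq_one_iff_unique.1 h1).1
            haveI := Sylow.normal_of_subsingleton P
            rcases (inferInstance : (P : Subgroup (G ⧸ N)).Normal).eq_bot_or_eq_top with h2 | h2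
            · exact hPne h2
            · rw [h2, card_top, e] at hP; norm_num at hP
          · refine not_normalizer_le_centralizer hcy P hPne ?_
            have hN := card_normalizer_mul P
            rw [h1, e] at hN
            haveI : IsCyclic (P : Subgroup (G ⧸ N)) := isCyclic_of_prime_card hP
            rw [← eq_of_le_of_card_ge le_normalizer (by omega :
              Nat.card ↥(normalizer ((P : Subgroup (G ⧸ N)) : Set (G ⧸ N))) ≤ Nat.card (P : Subgroup (G ⧸ N)))]
            exact le_centralizer _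
      · obtain ⟨L, hL, hLb, hLt⟩ : ∃ L : Subgroup (G ⧸ N), L.Normal ∧ L ≠ ⊥ ∧ L ≠ ⊤ := by
          by_contra hno
          push Not at hno
          exact hsq ⟨fun H hH => or_iff_not_imp_left.2 (hno H hH)⟩
        haveI := hL
        have hLm := card_mul_index L
        have hL1 : 1 < Nat.card L := L.one_lt_card_iff_ne_bot.2 hLb
        have hL2 : 1 < L.index := L.one_lt_index_of_ne_top hLt
        haveI := Cfsg.Lib.Recog.Icosa.solvable_of_lt_sixty _ L rfl (by rcases hcases with e | e <;> nlinarith)
        haveI := Cfsg.Lib.Recog.Icosa.solvable_of_lt_sixty _ ((G ⧸ N) ⧸ L) rfl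
          (by rw [← index_eq_card]; rcases hcases with e | e <;> nlinarith)
        exact h (Group.isSolvable_of_ker_le_range L.subtype (QuotientGroup.mk' L)
          (by rw [QuotientGroup.ker_mk', range_subtype]))
    exact Group.isSolvable_of_ker_le_range N.subtype (QuotientGroup.mk' N)
      (by rw [QuotientGroup.ker_mk', range_subtype])

/-- The case of a nontrivial odd core. -/
theorem three_case (hns : ¬ Group.IsSolvable Q) (hO2 : Cfsg.pCore 2 Q = ⊥) {f : Q →* A8}
    (hf : Function.Injective f) (hO : Cfsg.pPrimeCore 2 Q ≠ ⊥) :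
    Nat.card ↥(Cfsg.pCore 3 Q) = 3 ∧
      (Nonempty (Q ⧸ Cfsg.pCore 3 Q ≃* ↥(alternatingGroup (Fin 5))) ∨
        Nonempty (Q ⧸ Cfsg.pCore 3 Q ≃* Equiv.Perm (Fin 5))) := by
  classical
  haveI : Fact (Nat.Prime 3) := ⟨Nat.prime_three⟩
  have hO' : Group.IsSolvable ↥(Cfsg.pPrimeCore 2 Q) :=
    solvable_of_odd _ _ (f.comp (Subgroup.subtype _)) (hf.comp (Subgroup.subtype_injective _)) rfl
      (Nat.coprime_two_right.1 (Cfsg.Lib.Core.pPrimeCore_coprime 2 Q))
  obtain ⟨q, M, hq, hM, hne, hab, hp⟩ := exists_abelian_normal inferInstance hO hO'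
  obtain ⟨hM3, hCns, y, hyC, hy⟩ := card_three hns hO2 hf hq hM hne hab hp
  haveI := hM
  set C := centralizer (M : Set Q) with hCdef
  haveI hCn : C.Normal := inferInstance
  have hMC : M ≤ C := fun s hs => mem_centralizer_iff.2 fun r hr =>
    congrArg Subtype.val (hab.is_comm.comm ⟨r, hr⟩ ⟨s, hs⟩)
  obtain ⟨m, hm⟩ := exists_prime_orderOf_dvd_card' (G := M) 3 (by rw [hM3])
  have hC180 : Nat.card C ∣ 180 := by
    rw [← card_centralizer_three (m := f m.1) (y := f y) (by rw [orderOf_map f hf, Subgroup.orderOf_coe, hm])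
      (by rw [orderOf_map f hf, hy]) ((show Commute m.1 y from mem_centralizer_iff.1 hyC _ m.2).map f)]
    exact card_dvd_of_injective ((f.comp C.subtype).codRestrict _ fun s =>
      mem_centralizer_singleton_iff.2
        ((show Commute s.1 m.1 from (mem_centralizer_iff.1 s.2 _ m.2).symm).map f).eq)
      fun a b h => Subtype.ext (hf (congrArg Subtype.val h))
  let π := QuotientGroup.mk' M
  set N := C.map π with hNdef
  haveI hNn : N.Normal := hCn.map π (QuotientGroup.mk'_surjective M)
  haveI hMs : Group.IsSolvable M := isSolvable_of_comm hab.is_comm.comm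
  have hNns : ¬ Group.IsSolvable N := fun hs => by
    haveI := hs
    refine hCns (Group.isSolvable_of_ker_le_range (inclusion hMC) (π.subgroupMap C) fun x hx => ?_)
    have : x.1 ∈ M := (QuotientGroup.eq_one_iff _).1 (congrArg Subtype.val (MonoidHom.mem_ker.1 hx))
    exact ⟨⟨x.1, this⟩, rfl⟩
  have hNcard : Nat.card N * 3 = Nat.card C := by
    rw [hNdef, ← hM3, ← relIndex_ker (K := C) π, QuotientGroup.ker_mk', relIndex, mul_comm,
      ← Nat.card_congr (subgroupOfEquivOfLe hMC).toEquiv, card_mul_index]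
  have hN60 : Nat.card N = 60 := by
    refine le_antisymm (Nat.le_of_dvd (by norm_num) ?_) ?_
    · exact Nat.dvd_of_mul_dvd_mul_right (by norm_num : 0 < 3) (hNcard ▸ hC180)
    · by_contra hlt
      exact hNns (Cfsg.Lib.Recog.Icosa.solvable_of_lt_sixty _ N rfl (by omega))
  have hidx : N.index ∣ 2 := by
    refine (index_map_dvd C (QuotientGroup.mk'_surjective M)).trans ?_
    have hker : (MulAut.conjNormal : Q →* MulAut M).ker = C := by
      ext x
      rw [MonoidHom.mem_ker]
      constructor
      · intro hx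
        refine mem_centralizer_iff.2 fun s hs => ?_
        have h := congrArg (fun a : MulAut M => ((a ⟨s, hs⟩ : M) : Q)) hx
        simp only [MulAut.conjNormal_apply, MulAut.one_apply] at h
        rw [mul_inv_eq_iff_eq_mul] at h
        exact h.symm
      · intro hx
        refine MulEquiv.ext fun s => Subtype.ext ?_
        simp only [MulAut.conjNormal_apply, MulAut.one_apply]
        rw [mul_inv_eq_iff_eq_mul]
        exact (mem_centralizer_iff.1 hx _ s.2).symm
    rw [← hker, index_ker]
    refine (card_subgroup_dvd_card _).trans ?_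
    haveI : IsCyclic M := isCyclic_of_prime_card hM3
    rw [IsCyclic.card_mulAut, hM3]
    decide
  have hCN : centralizer (N : Set (Q ⧸ M)) = ⊥ := by
    by_contra hne'
    set Z := centralizer (N : Set (Q ⧸ M)) with hZ
    have hZN : Z ⊓ N = ⊥ := by
      haveI := isSimple_of_card_sixty hNns hN60
      haveI : Z.Normal := inferInstance
      rcases (inferInstance : (Z.subgroupOf N).Normal).eq_bot_or_eq_top with e | e
      · rw [subgroupOf_eq_bot] at e; exact e.eq_bot
      · exfalso
        rw [subgroupOf_eq_top] at e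
        exact hNns (isSolvable_of_comm fun a b => Subtype.ext (mem_centralizer_iff.1 (e b.2) _ a.2))
    have hinj : Function.Injective ((QuotientGroup.mk' N).comp Z.subtype) := by
      refine (injective_iff_map_eq_one _).2 fun z hz => ?_
      have h : z.1 ∈ Z ⊓ N := ⟨z.2, (QuotientGroup.eq_one_iff _).1 hz⟩
      rw [hZN, mem_bot] at h
      exact Subtype.ext h
    have hZ2 : Nat.card Z ∣ 2 := (card_dvd_of_injective _ hinj).trans (by rwa [← index_eq_card])
    have hZ1 : 1 < Nat.card Z := Z.one_lt_card_iff_ne_bot.2 hne'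
    haveI : Fact (Nat.Prime 2) := ⟨Nat.prime_two⟩
    obtain ⟨z, hz⟩ := exists_prime_orderOf_dvd_card' (G := Z) 2
      (((Nat.dvd_prime Nat.prime_two).1 hZ2).resolve_left (by omega) ▸ dvd_rfl)
    obtain ⟨x, hx⟩ := QuotientGroup.mk'_surjective M z.1
    have hz2 : z.1 ^ 2 = 1 := by rw [← hz, ← Subgroup.orderOf_coe]; exact pow_orderOf_eq_one _
    have hM3' : ∀ s ∈ M, s ^ 3 = 1 := fun s hs => by
      have h : (⟨s, hs⟩ : M) ^ 3 = 1 := hM3 ▸ pow_card_eq_one'
      exact congrArg Subtype.val h
    set t := x ^ 3 with ht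
    have hπt : π t = z.1 := by rw [ht, map_pow, hx, pow_succ, hz2, one_mul]
    have ht2 : t ^ 2 = 1 := by
      rw [ht, ← pow_mul, show 3 * 2 = 2 * 3 from rfl, pow_mul]
      exact hM3' _ ((QuotientGroup.eq_one_iff _).1 (by
        show π (x ^ 2) = 1
        rw [map_pow, hx, hz2]))
    have hty : Commute t y := by
      have hzy : π y * z.1 = z.1 * π y := mem_centralizer_iff.1 z.2 _ (mem_map_of_mem π hyC)
      set s := y⁻¹ * (t * y * t⁻¹) with hs
      have hsM : s ∈ M := (QuotientGroup.eq_one_iff _).1 (by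
        show π s = 1
        rw [hs, map_mul, map_mul, map_mul, map_inv, map_inv, hπt, ← hzy]; group)
      have hys : t * y * t⁻¹ = y * s := by rw [hs]; group
      have hc : Commute y s := (mem_centralizer_iff.1 hyC s hsM).symm
      have h5 : s ^ 5 = 1 := by
        have h := congrArg (· ^ 5) hys
        simp only [conj_pow, hc.mul_pow] at h
        rw [← hy, pow_orderOf_eq_one, mul_one, mul_inv_cancel, one_mul] at h
        rw [← hy]; exact h.symm
      have hs1 : s = 1 := by
        have h := pow_gcd_eq_one.2 ⟨h5, hM3' s hsM⟩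
        rwa [show Nat.gcd 5 3 = 1 from rfl, pow_one] at h
      rw [hs1, mul_one, mul_inv_eq_iff_eq_mul] at hys
      exact hys
    have ht1 : t ≠ 1 := fun h => by
      have : z = 1 := Subtype.ext (by rw [← hπt, h, map_one]; rfl)
      rw [this, orderOf_one] at hz
      norm_num at hz
    have hd := Subgroup.orderOf_dvd_natCard _
      (mem_centralizer_singleton_iff.2 (hty.map f).eq : f t ∈ centralizer {f y})
    rw [card_centralizer_five (by rw [orderOf_map f hf, hy]), orderOf_map f hf,
      orderOf_eq_prime ht2 ht1] at hd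
    norm_num at hd
  have hpi := five_or_sym hNn hNns hN60 hidx hCN
  have hP : Cfsg.pCore 3 Q = M := by
    refine le_antisymm ?_ (Cfsg.Lib.Core.le_pCore (IsPGroup.of_card (n := 1) (by rw [hM3, pow_one])))
    have h : (Cfsg.pCore 3 Q).map π ≤ ⊥ := hpi.1 ▸ Cfsg.Lib.Core.le_pCore'
      (Subgroup.Normal.map inferInstance π (QuotientGroup.mk'_surjective M))
      ((Cfsg.Lib.Core.pCore_isPGroup 3 Q).map π)
    rwa [le_bot_iff, Subgroup.map_eq_bot_iff, QuotientGroup.ker_mk'] at h
  refine ⟨hP ▸ hM3, ?_⟩
  rcases hpi.2 with h | h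
  · exact Or.inl (h.map fun e => (QuotientGroup.quotientMulEquivOfEq hP).trans e)
  · exact Or.inr (h.map fun e => (QuotientGroup.quotientMulEquivOfEq hP).trans e)

end Cfsg.Lib.Small.SecRankFour
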