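import Cfsg.Agent.Lib.Small.SecRankFour.RankFive

/-!
# The quotient by the two-core in sectional rank four
-/

set_option autoImplicit false

namespace Cfsg.Lib.Small.SecRankFour

open Subgroup
open Cfsg.Lib.Small.AltEight

variable {X : Type*} [Group X] [Finite X]

theorem quotient_not_solvable (hns : ¬ Group.IsSolvable X) :
    ¬ Group.IsSolvable (X ⧸ Cfsg.pCore 2 X) := by
  intro h
  haveI : Fact (Nat.Prime 2) := ⟨Nat.prime_two⟩
  haveI : Group.IsNilpotent ↥(Cfsg.pCore 2 X) := (Cfsg.Lib.Core.pCore_isPGroup 2 X).isNilpotent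
  haveI := h
  exact hns (Group.isSolvable_of_ker_le_range (Cfsg.pCore 2 X).subtype (QuotientGroup.mk' (Cfsg.pCore 2 X))
    (by rw [QuotientGroup.ker_mk', range_subtype]))

/-- The automorphisms of an elementary abelian group of order at most eight. -/
theorem card_mulAut_le {W : Type*} [CommGroup W] [Finite W] (h2 : ∀ w : W, w ^ 2 = 1)
    (hW : Nat.card W ≤ 8) : Nat.card (MulAut W) ≤ 512 := by
  classical
  haveI : Fact (Nat.Prime 2) := ⟨Nat.prime_two⟩
  letI : Module (ZMod 2) (Additive W) := AddCommGroup.zmodModule fun a => by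
    rw [← ofMul_toMul a, ← ofMul_pow, h2]; rfl
  haveI : Module.Finite (ZMod 2) (Additive W) := Module.Finite.of_finite
  set r := Module.finrank (ZMod 2) (Additive W)
  have hr : r ≤ 3 := by
    have h1 := Module.natCard_eq_pow_finrank (K := ZMod 2) (V := Additive W)
    rw [Nat.card_zmod, Nat.card_congr Additive.toMul] at h1
    rw [h1] at hW
    exact (Nat.pow_le_pow_iff_right (le_refl 2)).1 (hW.trans (by norm_num : 8 ≤ 2 ^ 3))
  let b : Module.Basis (Fin r) (ZMod 2) (Additive W) := Module.finBasis _ _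
  refine (Nat.card_le_card_of_injective (fun (a : MulAut W) (i : Fin r) => a (b i).toMul) fun a c hac => ?_).trans ?_
  · have h : (a.toMonoidHom.toAdditive).toZModLinearMap 2 = (c.toMonoidHom.toAdditive).toZModLinearMap 2 :=
      b.ext fun i => congrArg Additive.ofMul (congrFun hac i)
    exact MulEquiv.ext fun w => Additive.ofMul.injective (DFunLike.congr_fun h (Additive.ofMul w))
  · rw [Nat.card_fun, Nat.card_fin]
    calc Nat.card W ^ r ≤ 8 ^ r := Nat.pow_le_pow_left hW r
      _ ≤ 8 ^ 3 := Nat.pow_le_pow_right (by norm_num) hr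

theorem exists_equiv_W0 {W : Type*} [CommGroup W] [Finite W] (h2 : ∀ w : W, w ^ 2 = 1)
    (hW : Nat.card W = 16) : Nonempty (W ≃* W0) := by
  classical
  haveI : Fact (Nat.Prime 2) := ⟨Nat.prime_two⟩
  letI : Module (ZMod 2) (Additive W) := AddCommGroup.zmodModule fun a => by
    rw [← ofMul_toMul a, ← ofMul_pow, h2]; rfl
  haveI : Module.Finite (ZMod 2) (Additive W) := Module.Finite.of_finite
  have hr : Module.finrank (ZMod 2) (Additive W) = 4 := by
    have h1 := Module.natCard_eq_pow_finrank (K := ZMod 2) (V := Additive W)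
    rw [Nat.card_zmod, Nat.card_congr Additive.toMul, hW] at h1
    exact (Nat.pow_right_injective (le_refl 2) (h1.symm.trans (by norm_num : (16 : ℕ) = 2 ^ 4)))
  let b : Module.Basis (Fin 4) (ZMod 2) (Additive W) := Module.finBasisOfFinrankEq _ _ hr
  exact ⟨MulEquiv.toAdditiveLeft.symm b.equivFun.toAddEquiv⟩

/-- A symmetric group of degree six in the quotient forces a section of rank five. -/
theorem no_six (hc : Cfsg.IsPConstrained 2 X) (hO : Cfsg.oddCore X = ⊥)
    (h4 : Cfsg.SectionalPRankLE 2 4 X) (ι : Equiv.Perm (Fin 6) →* X ⧸ Cfsg.pCore 2 X)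
    (hι : Function.Injective ι) : False := by
  classical
  haveI : Fact (Nat.Prime 2) := ⟨Nat.prime_two⟩
  have hC := Cfsg.Agent.S3103.centralizer_le hc hO
  set P := Cfsg.pCore 2 X with hPdef
  have hP : IsPGroup 2 P := Cfsg.Lib.Core.pCore_isPGroup 2 X
  haveI : P.Normal := inferInstance
  have hel := Cfsg.Lib.PGroup.isElementaryAbelian_quotient_frattini hP
  set Φ : Subgroup X := (frattini ↥P).map P.subtype with hΦ
  haveI : Φ.Normal := inferInstance
  have hΦP : Φ ≤ P := map_subtype_le _
  let π := QuotientGroup.mk' Φ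
  set WK : Subgroup (X ⧸ Φ) := P.map π with hWK
  have hmem : ∀ u : ↥P, π u.1 = 1 ↔ u ∈ frattini ↥P := fun u => by
    rw [QuotientGroup.mk'_apply, QuotientGroup.eq_one_iff, hΦ, mem_map]
    exact ⟨fun ⟨v, hv, e⟩ => Subtype.ext (show v.1 = u.1 from e) ▸ hv, fun h => ⟨u, h, rfl⟩⟩
  haveI hWn : WK.Normal := Normal.map inferInstance π (QuotientGroup.mk'_surjective Φ)
  have hsq : ∀ w : WK, w ^ 2 = 1 := by
    rintro ⟨_, u, hu, rfl⟩
    refine Subtype.ext ?_
    show (π u) ^ 2 = 1
    rw [← map_pow]
    have h := hel.2 ((⟨u, hu⟩ : ↥P) : ↥P ⧸ frattini ↥P) (mem_top _)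
    rw [← QuotientGroup.mk_pow, QuotientGroup.eq_one_iff] at h
    exact (hmem _).2 h
  have hab : ∀ a b : WK, a * b = b * a := fun a b => mul_comm_of_exponent_two
    (Monoid.exponent_dvd_of_forall_pow_eq_one hsq |> fun h => by
      rcases (Nat.dvd_prime Nat.prime_two).1 h with h1 | h1
      · exact absurd h1 (by
          intro h1
          have hs : Subsingleton WK := Monoid.exp_eq_one_iff.1 h1
          have hbot : WK = ⊥ := WK.eq_bot_of_subsingleton
          rw [hWK, Subgroup.map_eq_bot_iff, QuotientGroup.ker_mk'] at hbot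
          have hfr : frattini ↥P = ⊤ := eq_top_iff.2 fun u _ =>
            (hmem u).1 ((QuotientGroup.eq_one_iff _).2 (hbot u.2))
          have hPb : P = ⊥ := by
            by_contra hne
            haveI : Nontrivial ↥P := (nontrivial_iff_ne_bot P).2 hne
            exact bot_ne_top (frattini_nongenerating (K := (⊥ : Subgroup ↥P)) (by rw [hfr, sup_top_eq]))
          have htop : (⊤ : Subgroup X) ≤ P := by
            refine le_trans (fun x _ => mem_centralizer_iff.2 fun s hs => ?_) hC
            have : s = 1 := by simpa [hPb] using hs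
            subst this; simp
          have hsub : Subsingleton (X ⧸ P) := QuotientGroup.subsingleton_iff.2 (top_le_iff.1 htop)
          exact absurd (hι (Subsingleton.elim (ι (Equiv.swap 0 1)) (ι 1))) (by decide))
      · exact h1) a b
  letI : CommGroup WK := { (inferInstance : Group WK) with mul_comm := hab }
  have h4K : Cfsg.SectionalPRankLE 2 4 (X ⧸ Φ) := sectional_bound h4 π (QuotientGroup.mk'_surjective Φ)
  let ψ : X ⧸ Φ →* MulAut WK := MulAut.conjNormal
  have hker : ψ.ker = WK.subtype.range := by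
    rw [range_subtype]
    refine le_antisymm (fun k hk => ?_) fun k hk => MonoidHom.mem_ker.2 (MulEquiv.ext fun w => Subtype.ext ?_)
    · obtain ⟨x, rfl⟩ := QuotientGroup.mk'_surjective Φ k
      -- the action on the Frattini quotient of the two-core
      let conjP : X →* MulAut ↥P := MulAut.conjNormal
      let S : Subgroup X := (Cfsg.Lib.PGroup.frattiniStab ↥P).comap conjP
      have hS : ∀ z, z ∈ S ↔ ψ (π z) = 1 := fun z => by
        constructor
        · intro hz
          refine MulEquiv.ext fun w => Subtype.ext ?_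
          obtain ⟨_, u, hu, rfl⟩ := w
          show π z * π u * (π z)⁻¹ = π u
          have h := (hmem _).2 (hz ⟨u, hu⟩)
          simp only [conjP, Subgroup.coe_mul, InvMemClass.coe_inv, map_mul, map_inv,
            MulAut.conjNormal_apply] at h
          exact (inv_mul_eq_one.1 h).symm
        · intro hz u
          rw [← hmem]
          have h := congrArg (fun a : MulAut WK => ((a ⟨π u.1, u.1, u.2, rfl⟩ : WK) : X ⧸ Φ)) hz
          simp only [ψ, MulAut.conjNormal_apply, MulAut.one_apply] at h
          simp only [conjP, Subgroup.coe_mul, InvMemClass.coe_inv, map_mul, map_inv,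
            MulAut.conjNormal_apply]
          exact inv_mul_eq_one.2 h.symm
      haveI : S.Normal := by
        have e : S = (ψ.comp π).ker := Subgroup.ext fun z => (hS z).trans MonoidHom.mem_ker.symm
        rw [e]; infer_instance
      have hSP : IsPGroup 2 S := by
        rintro ⟨z, hz⟩
        obtain ⟨k, hk⟩ := Cfsg.Lib.PGroup.isPGroup_frattiniStab hP ⟨conjP z, hz⟩
        have hk' : z ^ 2 ^ k ∈ centralizer (P : Set X) := by
          refine mem_centralizer_iff.2 fun y hy => ?_
          have := congrArg (fun a : Cfsg.Lib.PGroup.frattiniStab ↥P => ((a.1 ⟨y, hy⟩ : ↥P) : X)) hk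
          simp only [SubmonoidClass.coe_pow, ← map_pow, OneMemClass.coe_one, MulAut.one_apply, conjP,
            MulAut.conjNormal_apply] at this
          exact (mul_inv_eq_iff_eq_mul.1 this).symm
        obtain ⟨j, hj⟩ := hP ⟨_, hC hk'⟩
        exact ⟨k + j, Subtype.ext (by
          have := congrArg Subtype.val hj
          simpa [pow_add, pow_mul] using this)⟩
      exact mem_map_of_mem π (Cfsg.Lib.Core.le_pCore hSP ((hS x).2 (MonoidHom.mem_ker.1 hk)))
    · simp only [ψ, MulAut.conjNormal_apply, MulAut.one_apply]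
      rw [mul_inv_eq_iff_eq_mul]
      exact congrArg Subtype.val (hab ⟨k, hk⟩ w)
  -- transfer to the quotient by the two-core
  let g : X →* MulAut WK := ψ.comp π
  have hgker : g.ker = P := by
    show (ψ.comp π).ker = P
    rw [← MonoidHom.comap_ker, hker, range_subtype, hWK, comap_map_eq, QuotientGroup.ker_mk',
      sup_eq_left.2 hΦP]
  let gb : X ⧸ P →* MulAut WK := QuotientGroup.lift P g hgker.ge
  have hgb : Function.Injective gb := by
    rw [← MonoidHom.ker_eq_bot_iff, QuotientGroup.ker_lift, hgker]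
    exact (Subgroup.map_eq_bot_iff _).2 (by rw [QuotientGroup.ker_mk'])
  have hσ : Function.Injective (gb.comp ι) := hgb.comp hι
  have hW16 : Nat.card WK = 16 := by
    have hle : Nat.card WK ≤ 16 := by
      have hb := h4K WK ⊥
      let e : ↥WK ⧸ (⊥ : Subgroup ↥WK) ≃* ↥WK := QuotientGroup.quotientBot
      have h := hb ⊤ ⟨⟨fun a b => Subtype.ext (e.injective (by rw [Subgroup.coe_mul, Subgroup.coe_mul, map_mul, map_mul, hab]))⟩⟩
        (fun a _ => e.injective (by rw [map_pow, hsq, map_one]))
      rwa [card_top, Nat.card_congr e.toEquiv] at h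
    obtain ⟨n, hn⟩ := (IsPGroup.iff_card (p := 2) (G := WK)).1 fun w => ⟨1, by rw [pow_one]; exact hsq w⟩
    have h720 := Nat.card_le_card_of_injective _ hσ
    rw [Nat.card_perm, Nat.card_fin, show Nat.factorial 6 = 720 from rfl] at h720
    by_contra hne
    have h8 : Nat.card WK ≤ 8 := by
      rw [hn] at hle hne ⊢
      have : n ≤ 4 := (Nat.pow_le_pow_iff_right (le_refl 2)).1 (hle.trans (by norm_num : 16 ≤ 2 ^ 4))
      interval_cases n <;> simp_all
    have := card_mulAut_le hsq h8
    omega
  obtain ⟨ε⟩ := exists_equiv_W0 hsq hW16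
  obtain ⟨e0⟩ := exists_aut_equiv
  let e : MulAut WK ≃* A8 := (MulAut.congr ε).trans e0
  obtain ⟨z0, hz0, hz04⟩ := exists_four
  set z : MulAut WK := (MulAut.congr ε).symm z0 with hz
  have hz2 : z * z = 1 := by rw [hz, ← map_mul, hz0, map_one]
  have hz4 : Nat.card (fixed z) = 4 := by
    rw [← hz04]
    refine Nat.card_congr (ε.toEquiv.subtypeEquiv fun w => ?_)
    show z w = w ↔ z0 (ε w) = ε w
    have e' : z0 (ε w) = ε (z w) := by simp [hz, MulAut.congr]
    rw [e', ε.apply_eq_iff_eq]
  obtain ⟨r, hr, hrc, hrt, hrp⟩ := exists_triple (ι := e.toMonoidHom.comp (gb.comp ι)) (e.injective.comp hσ)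
  choose σ hσr using hr
  choose x hx using fun i => QuotientGroup.mk'_surjective P (ι (σ i))
  have hR : ∀ i, e (ψ (π (x i))) = r i := fun i => by
    rw [← hσr]
    show e (g (x i)) = e (gb (ι (σ i)))
    rw [← hx]; rfl
  refine not_rank_four ψ WK.subtype WK.subtype_injective hker
    (fun k w => MulAut.conjNormal_apply k w) hsq hW16 (fun i => π (x i)) (fun i => ?_) (fun i j => ?_)
    (fun i => ?_) (fun i j hij => ?_) h4K
  · apply e.injective
    rw [map_mul, hR, ← sq, (hrt i).1, map_one]
  · apply e.injective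
    rw [map_mul, map_mul, hR, hR]
    exact (hrc i j).eq
  · exact (card_fixed_of_type hsq hW16 e hz2 hz4 _).1 (by rw [hR]; exact (hrt i).2)
  · exact (card_fixed_of_type hsq hW16 e hz2 hz4 _).2 (by rw [map_mul, hR, hR]; exact hrp i j hij)

/-- The possible quotients. -/
theorem quotient_types {Q : Type*} [Group Q] [Finite Q] (hns : ¬ Group.IsSolvable Q)
    (hO2 : Cfsg.pCore 2 Q = ⊥) {f : Q →* A8} (hf : Function.Injective f) :
    (∃ (F : Type) (_ : Field F) (_ : Fintype F), Fintype.card F = 2 ∧
          Nonempty (Q ≃* Matrix.ProjectiveSpecialLinearGroup (Fin 3) F)) ∨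
        (∃ n : ℕ, 5 ≤ n ∧ n ≤ 8 ∧ Nonempty (Q ≃* ↥(alternatingGroup (Fin n)))) ∨
        (∃ n : ℕ, 5 ≤ n ∧ n ≤ 7 ∧ Nonempty (Q ≃* Equiv.Perm (Fin n))) ∨
        (Nat.card ↥(Cfsg.pCore 3 Q) = 3 ∧
          (Nonempty (Q ⧸ Cfsg.pCore 3 Q ≃* ↥(alternatingGroup (Fin 5))) ∨
            Nonempty (Q ⧸ Cfsg.pCore 3 Q ≃* Equiv.Perm (Fin 5)))) := by
  by_cases hO : Cfsg.pPrimeCore 2 Q = ⊥
  · haveI : Nontrivial Q := by
      by_contra h
      rw [not_nontrivial_iff_subsingleton] at h
      exact hns (isSolvable_of_comm fun a b => Subsingleton.elim _ _)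
    rcases classify inferInstance hO hO2 hf with h | h | h | h
    · exact Or.inr (Or.inl h)
    · exact Or.inr (Or.inr (Or.inl ⟨5, le_rfl, by norm_num, h⟩))
    · exact Or.inr (Or.inr (Or.inl ⟨6, by norm_num, by norm_num, h⟩))
    · refine Or.inl ⟨ZMod 2, inferInstance, inferInstance, ZMod.card 2, ?_⟩
      obtain ⟨e⟩ := exists_psl_equiv 3
      exact h.map fun e' => e'.trans e.symm
  · exact Or.inr (Or.inr (Or.inr (three_case hns hO2 hf hO)))

end Cfsg.Lib.Small.SecRankFour
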