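import Cfsg.Agent.Lib.Small.SecRankFour.RadQuot
import Cfsg.Agent.S3103

/-!
# Involutions of `GL(4,2)` and of `A₈`
-/

set_option autoImplicit false

namespace Cfsg.Lib.Small.SecRankFour

open Subgroup
open Cfsg.Lib.Small.AltEight

variable {W : Type*} [CommGroup W] [Finite W]

/-- The fixed points of an automorphism. -/
def fixed (a : MulAut W) : Subgroup W := a.toMonoidHom.eqLocus (MonoidHom.id W)

theorem mem_fixed {a : MulAut W} {w : W} : w ∈ fixed a ↔ a w = w := Iff.rfl

/-- The displacement of an automorphism. -/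
def disp (a : MulAut W) : W →* W :=
  { toFun := fun w => w * a w
    map_one' := by rw [map_one, one_mul]
    map_mul' := fun u v => by rw [map_mul, mul_mul_mul_comm] }

theorem ker_disp (h2 : ∀ w : W, w ^ 2 = 1) (a : MulAut W) : (disp a).ker = fixed a := by
  ext w
  rw [MonoidHom.mem_ker, mem_fixed]
  show w * a w = 1 ↔ _
  have hinv : w⁻¹ = w := inv_eq_of_mul_eq_one_left (by rw [← sq, h2])
  rw [mul_eq_one_iff_inv_eq, hinv, eq_comm]

theorem range_disp_le (h2 : ∀ w : W, w ^ 2 = 1) {a : MulAut W} (ha : a * a = 1) :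
    (disp a).range ≤ fixed a := by
  rintro _ ⟨w, rfl⟩
  rw [mem_fixed]
  show a (w * a w) = w * a w
  have h : a (a w) = w := DFunLike.congr_fun ha w
  rw [map_mul, h, mul_comm]

theorem card_fixed_cases (h2 : ∀ w : W, w ^ 2 = 1) (hW : Nat.card W = 16) {a : MulAut W}
    (ha : a * a = 1) (ha1 : a ≠ 1) : Nat.card (fixed a) = 4 ∨ Nat.card (fixed a) = 8 := by
  have hmul := card_mul_index (disp a).ker
  rw [index_ker, hW, ker_disp h2 a] at hmul
  have hle := card_dvd_of_le (range_disp_le h2 ha)
  have hne : Nat.card (fixed a) ≠ 16 := fun h => ha1 (MulEquiv.ext fun w => by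
    have : fixed a = ⊤ := eq_top_of_card_eq _ (h.trans hW.symm)
    exact mem_fixed.1 (this ▸ mem_top w))
  have hd : Nat.card (fixed a) ∣ 16 := hW ▸ card_subgroup_dvd_card _
  have h1 := Nat.mem_divisors.2 ⟨hd, by norm_num⟩
  have hle' := Nat.le_of_dvd Nat.card_pos hle
  rw [show Nat.divisors 16 = {1, 2, 4, 8, 16} from by decide] at h1
  simp only [Finset.mem_insert, Finset.mem_singleton] at h1
  rcases h1 with e | e | e | e | e <;> rw [e] at hmul hle' <;> omega

/-- An involution with exactly four fixed points has a centraliser of order at most `96`. -/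
theorem card_centralizer_le (h2 : ∀ w : W, w ^ 2 = 1) (hW : Nat.card W = 16) {y : MulAut W}
    (hy : y * y = 1) (h4 : Nat.card (fixed y) = 4) : Nat.card ↥(centralizer {y}) ≤ 96 := by
  classical
  set C := fixed y with hC
  have hran : (disp y).range = C := by
    refine eq_of_le_of_card_ge (range_disp_le h2 hy) ?_
    have hmul := card_mul_index (disp y).ker
    rw [index_ker, hW, ker_disp h2 y, ← hC, h4] at hmul
    omega
  haveI : Fact (Nat.Prime 2) := ⟨Nat.prime_two⟩
  haveI : Nontrivial C := Finite.one_lt_card_iff_nontrivial.1 (by omega)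
  obtain ⟨c1, hc1⟩ : ∃ c : C, c ≠ 1 := exists_ne 1
  obtain ⟨c2, hc2, hc21⟩ : ∃ c : C, c ≠ 1 ∧ c ≠ c1 := by
    by_contra hno
    push Not at hno
    have : Nat.card C ≤ 2 := by
      refine (Nat.card_le_card_of_injective (fun c : C => decide (c = 1)) fun a b hab => ?_).trans (by simp)
      simp only [decide_eq_decide] at hab
      by_cases ha : a = 1
      · rw [ha, hab.1 ha]
      · rw [hno a ha, hno b fun hb => ha (hab.2 hb)]
    omega
  have hC2 : ∀ c : C, c ^ 2 = 1 := fun c => Subtype.ext (h2 _)
  have hclo : closure {c1, c2} = (⊤ : Subgroup C) := by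
    refine eq_top_of_card_eq _ ?_
    rw [h4]
    have hd : Nat.card (closure ({c1, c2} : Set C)) ∣ 4 := h4 ▸ card_subgroup_dvd_card _
    have h3 : 3 ≤ Nat.card (closure ({c1, c2} : Set C)) := by
      have h := Nat.card_le_card_of_injective (α := Fin 3)
        ![(1 : closure ({c1, c2} : Set C)), ⟨c1, subset_closure (by simp)⟩, ⟨c2, subset_closure (by simp)⟩]
        (by
          intro i j hij
          have h' := Subtype.ext_iff.1 hij
          fin_cases i <;> fin_cases j <;> first
            | rfl
            | exact absurd h'.symm hc1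
            | exact absurd h'.symm hc2
            | exact absurd h'.symm hc21
            | exact absurd h' hc1
            | exact absurd h' hc2
            | exact absurd h' hc21)
      simpa using h
    have := Nat.le_of_dvd (by norm_num) hd
    have : Nat.card (closure ({c1, c2} : Set C)) ≠ 3 := fun h => by rw [h] at hd; norm_num at hd
    omega
  have hlift : ∀ c : C, ∃ w, disp y w = c := fun c => MonoidHom.mem_range.1 (hran.symm.le c.2)
  choose s hs using hlift
  have hCa : ∀ (a : ↥(centralizer {y})) (w : W), a.1 (y w) = y (a.1 w) := fun a w =>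
    DFunLike.congr_fun (mem_centralizer_singleton_iff.1 a.2) w
  have hst : ∀ (a : ↥(centralizer {y})) (c : C), a.1 c ∈ C := fun a c => by
    show y (a.1 c) = a.1 c
    rw [← hCa, show y (c : W) = c from c.2]
  let act : ↥(centralizer {y}) → C → C := fun a c => ⟨a.1 c, hst a c⟩
  have hd : ∀ (a : ↥(centralizer {y})) (c : C), a.1 (s c) * s (act a c) ∈ C := fun a c => by
    rw [hC, ← ker_disp h2, MonoidHom.mem_ker, map_mul, hs]
    have e : disp y (a.1 (s c)) = a.1 (disp y (s c)) := by
      show a.1 (s c) * y (a.1 (s c)) = a.1 (s c * y (s c))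
      rw [map_mul, hCa]
    rw [e, hs]
    show (a.1 c : W) * a.1 c = 1
    rw [← sq, h2]
  let Pairs := {p : {c : C // c ≠ 1} × {c : C // c ≠ 1} // p.1 ≠ p.2}
  let Φ : ↥(centralizer {y}) → Pairs × C × C := fun a =>
    (⟨(⟨act a c1, fun h => hc1 (Subtype.ext (a.1.injective ((congrArg Subtype.val h).trans (map_one a.1).symm)))⟩,
        ⟨act a c2, fun h => hc2 (Subtype.ext (a.1.injective ((congrArg Subtype.val h).trans (map_one a.1).symm)))⟩),
      fun h => hc21 (Subtype.ext (a.1.injective (congrArg (fun p : {c : C // c ≠ 1} => (p.1 : W)) h))).symm⟩,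
      ⟨_, hd a c1⟩, ⟨_, hd a c2⟩)
  have hΦ : Function.Injective Φ := by
    intro a b hab
    have e1 : act a c1 = act b c1 := congrArg (fun p : Pairs × C × C => p.1.1.1.1) hab
    have e2 : act a c2 = act b c2 := congrArg (fun p : Pairs × C × C => p.1.1.2.1) hab
    have e3 : a.1 (s c1) * s (act a c1) = b.1 (s c1) * s (act b c1) :=
      congrArg (fun p : Pairs × C × C => (p.2.1 : W)) hab
    have e4 : a.1 (s c2) * s (act a c2) = b.1 (s c2) * s (act b c2) :=
      congrArg (fun p : Pairs × C × C => (p.2.2 : W)) hab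
    have hc : ∀ c : C, a.1 c = b.1 c := by
      intro c
      have h : closure {c1, c2} ≤
          ((a.1.toMonoidHom.comp C.subtype).eqLocus (b.1.toMonoidHom.comp C.subtype)) := by
        rw [closure_le]
        intro d hd
        rcases hd with rfl | rfl
        · exact congrArg Subtype.val e1
        · exact congrArg Subtype.val e2
      rw [hclo] at h
      exact h (mem_top c)
    rw [e1] at e3
    rw [e2] at e4
    have h1 := mul_right_cancel e3
    have h2' := mul_right_cancel e4
    refine Subtype.ext (MulEquiv.ext fun w => ?_)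
    let K := a.1.toMonoidHom.eqLocus b.1.toMonoidHom
    suffices hK : K = ⊤ from (hK ▸ mem_top w : w ∈ K)
    have hCK : C ≤ K := fun c hc' => hc ⟨c, hc'⟩
    have hmap : K.map (disp y) = C := by
      refine le_antisymm (hran ▸ map_le_range _ _) ?_
      have h : closure {c1, c2} ≤ (K.map (disp y)).subgroupOf C := by
        rw [closure_le]
        intro d hd
        rcases hd with rfl | rfl
        · exact ⟨s d, h1, hs d⟩
        · exact ⟨s d, h2', hs d⟩
      rw [hclo] at h
      exact fun c hc' => h (mem_top (⟨c, hc'⟩ : C))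
    refine eq_top_iff.2 fun v _ => ?_
    obtain ⟨k, hk, e⟩ : disp y v ∈ K.map (disp y) := hmap.symm ▸ hran ▸ ⟨v, rfl⟩
    have : k⁻¹ * v ∈ C := by
      rw [hC, ← ker_disp h2, MonoidHom.mem_ker, map_mul, map_inv, e, inv_mul_cancel]
    simpa using mul_mem hk (hCK this)
  refine (Nat.card_le_card_of_injective Φ hΦ).trans ?_
  rw [Nat.card_prod, Nat.card_prod, h4]
  suffices Nat.card Pairs ≤ 6 by omega
  letI : Fintype C := Fintype.ofFinite C
  have h3 : Nat.card {c : C // c ≠ 1} = 3 := by
    rw [Nat.card_eq_fintype_card, Fintype.card_subtype_compl, Fintype.card_subtype_eq,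
      ← Nat.card_eq_fintype_card, h4]
  have e := (Fintype.equivFinOfCardEq (α := {c : C // c ≠ 1}) (by rw [← Nat.card_eq_fintype_card, h3]))
  refine (Nat.card_le_card_of_injective
    (fun p : Pairs => (⟨(e p.1.1, e p.1.2), fun h => p.2 (e.injective h)⟩ : {p : Fin 3 × Fin 3 // p.1 ≠ p.2}))
    fun p q hpq => ?_).trans (by rw [Nat.card_eq_fintype_card]; decide)
  have h := congrArg Subtype.val hpq
  simp only [Prod.mk.injEq, EmbeddingLike.apply_eq_iff_eq] at h
  exact Subtype.ext (Prod.ext h.1 h.2)

theorem card_fixed_conj (a g : MulAut W) : Nat.card (fixed (g * a * g⁻¹)) = Nat.card (fixed a) := by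
  refine (Nat.card_congr ((g : MulAut W).toEquiv.subtypeEquiv fun w => ?_)).symm
  show w ∈ fixed a ↔ g w ∈ fixed (g * a * g⁻¹)
  rw [mem_fixed, mem_fixed]
  simp [MulAut.mul_apply]

/-- An even permutation of type `(2,2,2,2)` has centraliser of order `192`. -/
theorem card_centralizer_fpf {x : A8} (hx : x.1.cycleType = {2, 2, 2, 2}) :
    Nat.card ↥(centralizer {x}) = 192 := by
  classical
  have h2 : x.1 * x.1 = 1 := by
    rw [← sq]
    refine orderOf_dvd_iff_pow_eq_one.1 ?_
    rw [← Equiv.Perm.lcm_cycleType, hx]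
    decide
  obtain ⟨a, ha⟩ : ∃ a, x.1 a ≠ a := by
    by_contra h
    push Not at h
    rw [show x.1 = 1 from Equiv.ext h, Equiv.Perm.cycleType_one] at hx
    exact absurd hx.symm (by decide)
  have hc : Commute (Equiv.swap a (x.1 a)) x.1 := by
    have hh : x.1 (x.1 a) = a := DFunLike.congr_fun h2 a
    have e : x.1 * Equiv.swap a (x.1 a) = Equiv.swap (x.1 a) (x.1 (x.1 a)) * x.1 :=
      (Equiv.mul_swap_eq_swap_mul x.1 a (x.1 a))
    rw [hh, Equiv.swap_comm (x.1 a) a] at e
    exact e.symm
  have h := two_mul_card_centralizer x _ (Equiv.Perm.sign_swap (Ne.symm ha)) hc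
  have h384 : Nat.card ↥(centralizer {x.1}) = 384 := by
    rw [Equiv.Perm.nat_card_centralizer, hx]; decide
  exact Nat.eq_of_mul_eq_mul_left two_pos (h.trans h384)

/-- Conjugacy in `A₈` of permutations of type `(2,2)`. -/
theorem isConj_two_two {x z : A8} (hx : x.1.cycleType = {2, 2}) (hz : z.1.cycleType = {2, 2}) :
    ∃ g : A8, g * x * g⁻¹ = z := by
  classical
  obtain ⟨γ, hγ⟩ := isConj_iff.1 (Equiv.Perm.isConj_iff_cycleType_eq.2 (hx.trans hz.symm))
  by_cases hs : Equiv.Perm.sign γ = 1
  · exact ⟨⟨γ, hs⟩, Subtype.ext hγ⟩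
  · obtain ⟨τ, hτ, hc⟩ := exists_odd_commute_of_fixed (σ := x.1)
      (by rw [← Equiv.Perm.sum_cycleType, hx]; decide)
    refine ⟨⟨γ * τ, ?_⟩, Subtype.ext ?_⟩
    · rw [Equiv.Perm.mem_alternatingGroup, map_mul, hτ,
        (Int.units_eq_one_or (Equiv.Perm.sign γ)).resolve_left hs]
      decide
    · show γ * τ * x.1 * (γ * τ)⁻¹ = z.1
      rw [mul_inv_rev, show γ * τ * x.1 * (τ⁻¹ * γ⁻¹) = γ * (τ * x.1 * τ⁻¹) * γ⁻¹ by group, hc.eq,
        mul_inv_cancel_right, hγ]

/-- The fixed points of the involutions in terms of the cycle types. -/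
theorem card_fixed_of_type (h2 : ∀ w : W, w ^ 2 = 1) (hW : Nat.card W = 16) (e : MulAut W ≃* A8)
    {z : MulAut W} (hz : z * z = 1) (hz4 : Nat.card (fixed z) = 4) (a : MulAut W) :
    ((e a).1.cycleType = {2, 2, 2, 2} → Nat.card (fixed a) = 8) ∧
      ((e a).1.cycleType = {2, 2} → Nat.card (fixed a) = 4) := by
  classical
  have hfpf : ∀ b : MulAut W, b * b = 1 → (e b).1.cycleType = {2, 2, 2, 2} → Nat.card (fixed b) ≠ 4 :=
    fun b hb ht h4 => by
      have h := card_centralizer_le h2 hW hb h4
      have hmap : Nat.card ↥(centralizer {b}) = Nat.card ↥(centralizer {e b}) :=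
        Nat.card_congr (e.toEquiv.subtypeEquiv fun g => by
          show g ∈ centralizer {b} ↔ e g ∈ centralizer {e b}
          rw [mem_centralizer_singleton_iff, mem_centralizer_singleton_iff, ← map_mul, ← map_mul,
            e.apply_eq_iff_eq])
      rw [hmap, card_centralizer_fpf ht] at h
      omega
  have hinv : ∀ b : MulAut W, (e b).1.cycleType ≠ 0 → (∀ n ∈ (e b).1.cycleType, n = 2) →
      b * b = 1 ∧ b ≠ 1 := fun b hne hn => by
    refine ⟨e.injective ?_, fun h => hne ?_⟩
    · rw [map_mul, map_one]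
      refine Subtype.ext ?_
      show (e b).1 * (e b).1 = 1
      rw [← sq]
      refine orderOf_dvd_iff_pow_eq_one.1 ?_
      rw [← Equiv.Perm.lcm_cycleType]
      exact Multiset.lcm_dvd.2 fun n hn' => (hn n hn') ▸ dvd_rfl
    · rw [h, map_one]; exact Equiv.Perm.cycleType_one
  constructor
  · intro ht
    obtain ⟨ha, ha1⟩ := hinv a (by rw [ht]; decide) (by rw [ht]; decide)
    exact (card_fixed_cases h2 hW ha ha1).resolve_left (hfpf a ha ht)
  · intro ht
    have hz1 : z ≠ 1 := fun h => by
      have : fixed z = ⊤ := eq_top_iff.2 fun w _ => mem_fixed.2 (by rw [h]; rfl)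
      rw [this, card_top, hW] at hz4; norm_num at hz4
    have hezt : (e z).1.cycleType = {2, 2} := by
      have ho : orderOf (e z).1 = 2 := by
        refine orderOf_eq_prime ?_ fun h => hz1 (e.injective ((Subtype.ext h).trans (map_one e).symm))
        rw [sq]
        exact congrArg Subtype.val (show e z * e z = 1 by rw [← map_mul, hz, map_one])
      obtain ⟨n, hn⟩ := Equiv.Perm.cycleType_prime_order (σ := (e z).1) (by rw [ho]; exact Nat.prime_two)
      rw [ho] at hn
      have hle := (e z).1.support.card_le_univ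
      rw [← Equiv.Perm.sum_cycleType, hn, Multiset.sum_replicate, smul_eq_mul, Fintype.card_fin] at hle
      have hsgn : Equiv.Perm.sign (e z).1 = 1 := (e z).2
      rw [Equiv.Perm.sign_of_cycleType, hn, Multiset.sum_replicate, Multiset.card_replicate, smul_eq_mul] at hsgn
      have hn4 : n ≤ 3 := by omega
      interval_cases n
      · exact absurd hsgn (by decide)
      · exact hn
      · exact absurd hsgn (by decide)
      · exact absurd hz4 (hfpf z hz hn)
    obtain ⟨g, hg⟩ := isConj_two_two hezt ht
    rw [← hz4, ← card_fixed_conj z (e.symm g)]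
    refine congrArg (fun q => Nat.card (fixed q)) (e.injective ?_)
    rw [← hg, map_mul, map_mul, map_inv, e.apply_symm_apply]

/-- The natural module for `GL(4,2)`. -/
abbrev W0 := Multiplicative (Fin 4 → ZMod 2)

theorem sq_W0 (w : W0) : w ^ 2 = 1 := by revert w; decide

theorem card_W0 : Nat.card W0 = 16 := by rw [Nat.card_eq_fintype_card]; rfl

theorem exists_aut_equiv : Nonempty (MulAut W0 ≃* A8) := by
  classical
  obtain ⟨f, hf⟩ := Cfsg.Agent.S3103.exists_hom (Q := W0) mul_comm sq_W0 (by rw [card_W0]; norm_num)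
  let L : GL (Fin 4) (ZMod 2) →* MulAut W0 :=
    { toFun := fun g =>
        { toFun := fun w => Multiplicative.ofAdd ((g : Matrix (Fin 4) (Fin 4) (ZMod 2)).mulVec w.toAdd)
          invFun := fun w => Multiplicative.ofAdd (((g⁻¹ : GL (Fin 4) (ZMod 2)) :
            Matrix (Fin 4) (Fin 4) (ZMod 2)).mulVec w.toAdd)
          left_inv := fun w => by simp [Matrix.mulVec_mulVec]
          right_inv := fun w => by simp [Matrix.mulVec_mulVec]
          map_mul' := fun u v => by simp [Matrix.mulVec_add] }
      map_one' := MulEquiv.ext fun w => by simp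
      map_mul' := fun g h => MulEquiv.ext fun w => by simp [Matrix.mulVec_mulVec] }
  have hL : Function.Injective L := fun g h hgh => Units.ext (Matrix.mulVec_injective (funext fun v =>
    Multiplicative.ofAdd.injective (DFunLike.congr_fun hgh (Multiplicative.ofAdd v))))
  obtain ⟨eg⟩ := gl_equiv_A8
  have h1 := Nat.card_le_card_of_injective f hf
  have h2 := Nat.card_le_card_of_injective L hL
  rw [Nat.card_congr eg.toEquiv] at h2
  exact ⟨MulEquiv.ofBijective f
    ((Nat.bijective_iff_injective_and_card f).2 ⟨hf, le_antisymm h1 h2⟩)⟩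

theorem exists_four : ∃ z : MulAut W0, z * z = 1 ∧ Nat.card (fixed z) = 4 := by
  classical
  let σ : Equiv.Perm (Fin 4) := Equiv.swap 0 1 * Equiv.swap 2 3
  let z : MulAut W0 :=
    { toFun := fun w => Multiplicative.ofAdd fun i => w.toAdd (σ i)
      invFun := fun w => Multiplicative.ofAdd fun i => w.toAdd (σ i)
      left_inv := by decide
      right_inv := by decide
      map_mul' := fun u v => rfl }
  have hz : z * z = 1 := MulEquiv.ext (by decide)
  refine ⟨z, hz, ?_⟩
  rw [show Nat.card (fixed z) = Nat.card {w : W0 // z w = w} from rfl, Nat.card_eq_fintype_card]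
  decide

end Cfsg.Lib.Small.SecRankFour
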