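import Cfsg.Agent.Lib.Small.SecRankFour.Six
import Cfsg.Agent.Lib.Small.SecRankFour.Transv

/-!
# A section of rank five over a symmetric group of degree six
-/

set_option autoImplicit false

namespace Cfsg.Lib.Small.SecRankFour

open Subgroup
open Cfsg.Lib.Small.AltEight

theorem sectional_bound {X K : Type*} [Group X] [Group K] (h : Cfsg.SectionalPRankLE 2 4 X)
    (π : X →* K) (hπ : Function.Surjective π) : Cfsg.SectionalPRankLE 2 4 K := by
  intro H N hN A hA hA2
  let φ : ↥(H.comap π) →* ↥H ⧸ N := (QuotientGroup.mk' N).comp (π.subgroupComap H)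
  have hφ : Function.Surjective φ := fun y => by
    obtain ⟨⟨z, hz⟩, rfl⟩ := QuotientGroup.mk'_surjective N y
    obtain ⟨x, rfl⟩ := hπ z
    exact ⟨⟨x, hz⟩, rfl⟩
  let e : ↥(H.comap π) ⧸ φ.ker ≃* ↥H ⧸ N := QuotientGroup.quotientKerEquivOfSurjective φ hφ
  have hb := h (H.comap π) φ.ker (A.map e.symm.toMonoidHom) (map_isMulCommutative A _) fun a ha => by
    obtain ⟨b, hb, rfl⟩ := ha
    rw [← map_pow, hA2 b hb, map_one]
  rwa [card_map_of_injective e.symm.injective] at hb

variable {K : Type*} [Group K] [Finite K] {W : Type*} [CommGroup W] [Finite W]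

/-- Three transvection-like actions give a section of rank five. -/
theorem not_rank_four (ψ : K →* MulAut W) (ι : W →* K) (hι : Function.Injective ι)
    (hker : ψ.ker = ι.range) (hconj : ∀ (k : K) (w : W), ι (ψ k w) = k * ι w * k⁻¹)
    (h2 : ∀ w : W, w ^ 2 = 1) (hW : Nat.card W = 16) (R : Fin 3 → K)
    (hsq : ∀ i, ψ (R i) * ψ (R i) = 1) (hcom : ∀ i j, Commute (ψ (R i)) (ψ (R j)))
    (h8 : ∀ i, Nat.card (fixed (ψ (R i))) = 8)
    (h4 : ∀ i j, i ≠ j → Nat.card (fixed (ψ (R i) * ψ (R j))) = 4) :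
    ¬ Cfsg.SectionalPRankLE 2 4 K := by
  classical
  intro hK
  set c : Fin 3 → MulAut W := fun i => ψ (R i) with hcdef
  have hran2 : ∀ i, Nat.card (disp (c i)).range = 2 := fun i => by
    have hmul := card_mul_index (disp (c i)).ker
    rw [index_ker, hW, ker_disp h2, show Nat.card (fixed (c i)) = 8 from h8 i] at hmul
    omega
  have hrfix : ∀ i j, (disp (c i)).range ≤ fixed (c j) := by
    intro i j
    by_cases hij : i = j
    · subst hij; exact range_disp_le h2 (hsq i)
    haveI : Fact (Nat.Prime 2) := ⟨Nat.prime_two⟩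
    rintro _ ⟨w, rfl⟩
    rw [mem_fixed]
    have hmap : c j (disp (c i) w) = disp (c i) (c j w) := by
      show c j (w * c i w) = c j w * c i (c j w)
      rw [map_mul]
      exact congrArg (c j w * ·) (DFunLike.congr_fun (hcom j i).eq w)
    -- an automorphism fixes the nontrivial element of an invariant subgroup of order two
    by_cases h1 : disp (c i) w = 1
    · rw [h1, map_one]
    obtain ⟨u, v, huv, hset⟩ := Nat.card_eq_two_iff.1 (hran2 i)
    have hone : ∀ x : (disp (c i)).range, x = 1 ∨ x = ⟨disp (c i) w, ⟨w, rfl⟩⟩ := by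
      intro x
      have hx := hset.symm.le (Set.mem_univ x)
      have hy := hset.symm.le (Set.mem_univ (⟨disp (c i) w, ⟨w, rfl⟩⟩ : (disp (c i)).range))
      have ho := hset.symm.le (Set.mem_univ (1 : (disp (c i)).range))
      have hne : (⟨disp (c i) w, ⟨w, rfl⟩⟩ : (disp (c i)).range) ≠ 1 := fun e => h1 (congrArg Subtype.val e)
      simp only [Set.mem_insert_iff, Set.mem_singleton_iff] at hx hy ho
      rcases hx with hx | hx <;> rcases hy with hy | hy <;> rcases ho with ho | ho <;> simp_all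
    rcases hone ⟨c j (disp (c i) w), ⟨c j w, hmap.symm⟩⟩ with e | e
    · exact absurd ((c j).injective ((congrArg Subtype.val e).trans (map_one (c j)).symm)) h1
    · exact congrArg Subtype.val e
  have hrne : ∀ i j, i ≠ j → (disp (c i)).range ⊓ (disp (c j)).range = ⊥ := by
    intro i j hij
    have hd : Nat.card ↥((disp (c i)).range ⊓ (disp (c j)).range) ∣ 2 :=
      hran2 i ▸ card_dvd_of_le inf_le_left
    rcases (Nat.dvd_prime Nat.prime_two).1 hd with h | h
    · exact card_eq_one.1 h
    exfalso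
    have e1 : (disp (c i)).range ⊓ (disp (c j)).range = (disp (c i)).range :=
      eq_of_le_of_card_ge inf_le_left (by rw [hran2, h])
    have e2 : (disp (c i)).range ⊓ (disp (c j)).range = (disp (c j)).range :=
      eq_of_le_of_card_ge inf_le_right (by rw [hran2, h])
    have hle : (disp (c i * c j)).range ≤ (disp (c i)).range := by
      rintro _ ⟨w, rfl⟩
      have e : disp (c i * c j) w = disp (c i) w * disp (c j) w := by
        have hd : c i (disp (c j) w) = disp (c j) w := hrfix j i ⟨w, rfl⟩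
        show w * c i (c j w) = w * c i w * (w * c j w)
        have hcij : c i (c j w) = c i w * (w * c j w) := by
          have : c j w = w * disp (c j) w := by
            show c j w = w * (w * c j w)
            rw [← mul_assoc, ← sq, h2, one_mul]
          conv_lhs => rw [this, map_mul, hd]
          rfl
        rw [hcij, ← mul_assoc]
      rw [e]
      exact mul_mem ⟨w, rfl⟩ ((e2.symm.trans e1).le ⟨w, rfl⟩)
    have hmul := card_mul_index (disp (c i * c j)).ker
    rw [index_ker, hW, ker_disp h2] at hmul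
    have := card_dvd_of_le hle
    rw [hran2] at this
    have := Nat.le_of_dvd two_pos this
    have h4' : Nat.card (fixed (c i * c j)) = 4 := h4 i j hij
    rw [h4'] at hmul
    omega
  have hinf : ∀ i j, i ≠ j → fixed (c i) ⊓ fixed (c j) = fixed (c i * c j) ∧
      Nat.card ↥(fixed (c i) ⊓ fixed (c j)) = 4 := by
    intro i j hij
    have hle : fixed (c i) ⊓ fixed (c j) ≤ fixed (c i * c j) := fun w hw => by
      rw [mem_fixed, MulAut.mul_apply, mem_fixed.1 hw.2, mem_fixed.1 hw.1]
    have hge : 4 ≤ Nat.card ↥(fixed (c i) ⊓ fixed (c j)) := by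
      have hb : ∀ k, (fixed (c k)).index = 2 := fun k => by
        have := card_mul_index (fixed (c k))
        rw [show Nat.card (fixed (c k)) = 8 from h8 k, hW] at this
        omega
      have h := index_inf_le (H := fixed (c i)) (K := fixed (c j))
      rw [hb, hb] at h
      have hm := card_mul_index (fixed (c i) ⊓ fixed (c j))
      rw [hW] at hm
      have : Nat.card ↥(fixed (c i) ⊓ fixed (c j)) * (fixed (c i) ⊓ fixed (c j)).index ≤
          Nat.card ↥(fixed (c i) ⊓ fixed (c j)) * 4 := Nat.mul_le_mul_left _ h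
      omega
    have h4' : Nat.card (fixed (c i * c j)) = 4 := h4 i j hij
    have e := eq_of_le_of_card_ge hle (h4'.le.trans hge)
    exact ⟨e, e.symm ▸ h4'⟩
  set L := fixed (c 0) ⊓ fixed (c 1) with hL
  have hL4 : Nat.card L = 4 := (hinf 0 1 (by decide)).2
  have hrL : ∀ i, (disp (c i)).range ≤ L := fun i => le_inf (hrfix i 0) (hrfix i 1)
  have hL3 : L ≤ fixed (c 2) := by
    have hsup : (disp (c 0)).range ⊔ (disp (c 1)).range = L := by
      refine eq_of_le_of_card_ge (sup_le (hrL 0) (hrL 1)) ?_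
      rw [hL4]
      set A := (disp (c 0)).range
      set B := (disp (c 1)).range
      have hm := card_mul_index (B.subgroupOf (A ⊔ B))
      rw [← relIndex, relIndex_sup_right, Nat.card_congr (subgroupOfEquivOfLe le_sup_right).toEquiv,
        ← inf_relIndex_right, (by rw [inf_comm]; exact hrne 0 1 (by decide) : B ⊓ A = ⊥), relIndex_bot_left,
        hran2, hran2] at hm
      omega
    rw [← hsup]
    exact sup_le (hrfix 0 2) (hrfix 1 2)
  have hLf : ∀ i, L ≤ fixed (c i) := fun i => by
    fin_cases i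
    · exact inf_le_left
    · exact inf_le_right
    · exact hL3
  have hLij : ∀ i j, i ≠ j → fixed (c i) ⊓ fixed (c j) = L := fun i j hij =>
    (eq_of_le_of_card_ge (le_inf (hLf i) (hLf j)) (by rw [(hinf i j hij).2, hL4])).symm
  -- the section
  set H := ι.range ⊔ closure (Set.range R) with hH
  have hWH : ι.range ≤ H := le_sup_left
  have hRH : ∀ i, R i ∈ H := fun i => mem_sup_right (subset_closure ⟨i, rfl⟩)
  have hnorm : H ≤ normalizer (L.map ι : Set K) := by
    have hfix : ∀ k : K, (∀ l ∈ L, ψ k l = l) → k ∈ normalizer (L.map ι : Set K) := fun k hk => by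
      rw [mem_normalizer_iff]
      intro x
      constructor
      · rintro ⟨l, hl, rfl⟩
        exact ⟨l, hl, by rw [← hconj, hk l hl]⟩
      · rintro ⟨l, hl, e⟩
        refine ⟨l, hl, ?_⟩
        have h := hconj k l
        rw [hk l hl] at h
        rw [h] at e
        exact mul_left_cancel (mul_right_cancel e)
    refine sup_le ?_ ((closure_le _).2 ?_)
    · rintro _ ⟨w, rfl⟩
      refine hfix _ fun l _ => ?_
      rw [show ψ (ι w) = 1 from MonoidHom.mem_ker.1 (hker.symm.le ⟨w, rfl⟩), MulAut.one_apply]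
    · rintro _ ⟨i, rfl⟩
      exact hfix _ fun l hl => mem_fixed.1 (hLf i hl)
  set N := (L.map ι).subgroupOf H with hN
  haveI hNn : N.Normal := (normal_subgroupOf_iff_le_normalizer (by
    rintro _ ⟨l, -, rfl⟩; exact hWH ⟨l, rfl⟩)).2 hnorm
  set π : H →* H ⧸ N := QuotientGroup.mk' N with hπ
  have hzero : ∀ (w : W), w ∈ L → π ⟨ι w, hWH ⟨w, rfl⟩⟩ = 1 := fun w hw =>
    (QuotientGroup.eq_one_iff _).2 (mem_subgroupOf.2 ⟨w, hw, rfl⟩)
  let g : Fin 3 → H ⧸ N := fun i => π ⟨R i, hRH i⟩
  let wb : W → H ⧸ N := fun w => π ⟨ι w, hWH ⟨w, rfl⟩⟩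
  have hwb : ∀ u v, wb (u * v) = wb u * wb v := fun u v => by
    show π _ = π _ * π _
    rw [← map_mul]; congr 1; exact Subtype.ext (map_mul ι u v)
  have hwg : ∀ i w, Commute (g i) (wb w) := by
    intro i w
    have e : (⟨R i, hRH i⟩ : H) * ⟨ι w, hWH ⟨w, rfl⟩⟩ =
        ⟨ι (disp (c i) w), hWH ⟨_, rfl⟩⟩ * ⟨ι w, hWH ⟨w, rfl⟩⟩ * ⟨R i, hRH i⟩ := by
      refine Subtype.ext ?_
      show R i * ι w = ι (disp (c i) w) * ι w * R i
      rw [← map_mul, show disp (c i) w * w = c i w by
        show w * c i w * w = c i w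
        rw [mul_comm w, mul_assoc, ← sq, h2, mul_one], hconj, inv_mul_cancel_right]
    have h := congrArg π e
    rw [map_mul, map_mul, map_mul, hzero _ (hrL i ⟨w, rfl⟩), one_mul] at h
    exact h
  -- squares of the lifts
  have hmemW : ∀ k, ψ k = 1 → ∃ w, ι w = k := fun k hk =>
    MonoidHom.mem_range.1 (hker.le (MonoidHom.mem_ker.2 hk))
  have hsqW : ∀ i, ∃ w, ι w = R i * R i := fun i => hmemW _ (by rw [map_mul, hsq])
  choose q hq using hsqW
  have hqfix : ∀ i, q i ∈ fixed (c i) := fun i => by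
    rw [mem_fixed]
    apply hι
    rw [hconj, hq]; group
  have hqL : ∀ i, q i ∈ L := by
    intro i
    obtain ⟨j, hij⟩ : ∃ j, i ≠ j := ⟨i + 1, by fin_cases i <;> decide⟩
    obtain ⟨d, hd⟩ := hmemW (R j * R i * (R j)⁻¹ * (R i)⁻¹) (by
      simp only [map_mul, map_inv]
      rw [(hcom j i).eq]; group)
    have e : c j (q i) = d * c i d * q i := by
      apply hι
      rw [map_mul, map_mul, hconj, hconj, hq, hd]
      group
    have e' : disp (c j) (q i) = disp (c i) d := by
      show q i * c j (q i) = d * c i d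
      rw [e, mul_comm (q i), mul_assoc, ← sq, h2, mul_one]
    have h1 : disp (c j) (q i) = 1 := by
      have hm : disp (c j) (q i) ∈ (disp (c i)).range ⊓ (disp (c j)).range :=
        ⟨e' ▸ ⟨d, rfl⟩, ⟨q i, rfl⟩⟩
      rwa [hrne i j hij, mem_bot] at hm
    rw [← hLij i j hij]
    refine ⟨hqfix i, ?_⟩
    show q i ∈ fixed (c j)
    rw [← ker_disp h2]
    exact h1
  have hgsq : ∀ i, g i * g i = 1 := fun i => by
    show π _ * π _ = 1
    rw [← map_mul, ← hzero _ (hqL i)]
    congr 1
    exact Subtype.ext (hq i).symm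
  have hgcom : ∀ i j, Commute (g i) (g j) := by
    intro i j
    by_cases hij : i = j
    · subst hij; exact Commute.refl _
    obtain ⟨w, hw⟩ := hmemW (R i * R j * (R i * R j)) (by
      rw [map_mul, map_mul]
      rw [show ψ (R i) * ψ (R j) * (ψ (R i) * ψ (R j)) = ψ (R i) * ψ (R i) * (ψ (R j) * ψ (R j)) from
        (hcom i j).symm.mul_mul_mul_comm _ _, hsq, hsq, one_mul])
    have hwL : w ∈ L := by
      rw [← hLij i j hij, (hinf i j hij).1, mem_fixed]
      apply hι
      rw [show c i * c j = ψ (R i * R j) from (map_mul ψ _ _).symm, hconj, hw]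
      group
    have h := hzero w hwL
    have h' : g i * g j * (g i * g j) = 1 := by
      rw [← h]
      show π _ * π _ * (π _ * π _) = _
      simp only [← map_mul]
      congr 1
      exact Subtype.ext hw.symm
    have hi : ∀ k, (g k)⁻¹ = g k := fun k => inv_eq_of_mul_eq_one_left (hgsq k)
    show g i * g j = g j * g i
    rw [eq_inv_of_mul_eq_one_left h', mul_inv_rev, hi, hi]
  let S : Set (H ⧸ N) := Set.range g ∪ Set.range wb
  have hgen : closure S = ⊤ := by
    refine eq_top_iff.2 fun x _ => ?_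
    obtain ⟨⟨k, hk⟩, rfl⟩ := QuotientGroup.mk'_surjective N x
    have hle : H ≤ ((closure S).comap π).map H.subtype := by
      refine sup_le ?_ ((closure_le _).2 ?_)
      · rintro _ ⟨w, rfl⟩
        exact ⟨⟨ι w, hWH ⟨w, rfl⟩⟩, subset_closure (Or.inr ⟨w, rfl⟩), rfl⟩
      · rintro _ ⟨i, rfl⟩
        exact ⟨⟨R i, hRH i⟩, subset_closure (Or.inl ⟨i, rfl⟩), rfl⟩
    obtain ⟨y, hy, hy'⟩ := hle hk
    obtain rfl : y = ⟨k, hk⟩ := Subtype.ext hy'
    exact hy
  have hScomm : ∀ a ∈ S, ∀ b ∈ S, a * b = b * a := by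
    rintro a (⟨i, rfl⟩ | ⟨u, rfl⟩) b (⟨j, rfl⟩ | ⟨v, rfl⟩)
    · exact hgcom i j
    · exact hwg i v
    · exact (hwg j u).symm
    · rw [← hwb, ← hwb, mul_comm]
  haveI hcomm : IsMulCommutative (⊤ : Subgroup (H ⧸ N)) := hgen ▸ isMulCommutative_closure hScomm
  have hexp : ∀ a ∈ (⊤ : Subgroup (H ⧸ N)), a ^ 2 = 1 := by
    intro a ha
    rw [← hgen] at ha
    induction ha using closure_induction with
    | mem x hx =>
      rcases hx with ⟨i, rfl⟩ | ⟨w, rfl⟩
      · rw [sq]; exact hgsq i
      · rw [sq, ← hwb, ← sq, h2]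
        show π ⟨ι 1, _⟩ = 1
        rw [show (⟨ι 1, hWH ⟨1, rfl⟩⟩ : H) = 1 from Subtype.ext (map_one ι), map_one]
    | one => exact one_pow 2
    | mul x y _ _ hx hy =>
      have hc : Commute x y := congrArg Subtype.val (mul_comm' (⟨x, mem_top x⟩ : (⊤ : Subgroup (H ⧸ N))) ⟨y, mem_top y⟩)
      rw [hc.mul_pow, hx, hy, one_mul]
    | inv x _ hx => rw [inv_pow, hx, inv_one]
  have hbound := hK H N ⊤ hcomm hexp
  rw [card_top] at hbound
  -- the order
  have hne1 : ∀ i, c i ≠ 1 := fun i h => by
    have h8' : Nat.card (fixed (c i)) = 8 := h8 i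
    have hW' : fixed (c i) = ⊤ := eq_top_iff.2 fun w _ => mem_fixed.2 (by rw [h]; rfl)
    rw [hW', card_top, hW] at h8'
    norm_num at h8'
  have hprodne : ∀ i j, i ≠ j → c i * c j ≠ 1 ∧ ∀ k, c i * c j ≠ c k := by
    intro i j hij
    have h4' : Nat.card (fixed (c i * c j)) = 4 := h4 i j hij
    refine ⟨fun h => ?_, fun k h => ?_⟩
    · have hW' : fixed (c i * c j) = ⊤ := eq_top_iff.2 fun w _ => mem_fixed.2 (by rw [h]; rfl)
      rw [hW', card_top, hW] at h4'
      norm_num at h4'
    · rw [h, h8 k] at h4'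
      norm_num at h4'
  have hcne : ∀ i j, i ≠ j → c i ≠ c j := fun i j hij h =>
    (hprodne i j hij).1 (by rw [h]; exact hsq j)
  have him : 5 ≤ Nat.card (H.map ψ) := by
    have hm : ∀ i, c i ∈ H.map ψ := fun i => mem_map_of_mem ψ (hRH i)
    have h := Nat.card_le_card_of_injective (α := Fin 5)
      ![(1 : H.map ψ), ⟨c 0, hm 0⟩, ⟨c 1, hm 1⟩, ⟨c 2, hm 2⟩, ⟨c 0 * c 1, mul_mem (hm 0) (hm 1)⟩]
      (by
        intro a b hab
        have h' := Subtype.ext_iff.1 hab
        have h01 := hcne 0 1 (by decide)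
        have h02 := hcne 0 2 (by decide)
        have h12 := hcne 1 2 (by decide)
        have hp := hprodne 0 1 (by decide)
        fin_cases a <;> fin_cases b <;> first
          | rfl
          | exact absurd h' (hne1 _)
          | exact absurd h'.symm (hne1 _)
          | exact absurd h' hp.1
          | exact absurd h'.symm hp.1
          | exact absurd h' (hp.2 _)
          | exact absurd h'.symm (hp.2 _)
          | exact absurd h' h01
          | exact absurd h'.symm h01
          | exact absurd h' h02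
          | exact absurd h'.symm h02
          | exact absurd h' h12
          | exact absurd h'.symm h12)
    simpa using h
  have hHc : Nat.card (H.map ψ) * 16 = Nat.card H := by
    have hkc : Nat.card ↥(ψ.ker.subgroupOf H) = 16 := by
      rw [Nat.card_congr (subgroupOfEquivOfLe (hker.le.trans hWH)).toEquiv, hker,
        ← Nat.card_congr (MonoidHom.ofInjective hι).toEquiv, hW]
    rw [← relIndex_ker (K := H) ψ, relIndex, mul_comm, ← hkc, card_mul_index]
  have hN4 : Nat.card N = 4 := by
    rw [hN, Nat.card_congr (subgroupOfEquivOfLe (by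
      rintro _ ⟨l, -, rfl⟩; exact hWH ⟨l, rfl⟩)).toEquiv, card_map_of_injective hι, hL4]
  have hq : Nat.card (H ⧸ N) * 4 = Nat.card H := by
    rw [← hN4]; exact (card_eq_card_quotient_mul_card_subgroup N).symm
  omega

end Cfsg.Lib.Small.SecRankFour
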