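import Cfsg.Agent.Lib.Small.AltEightSubgroups

/-!
# Symmetric groups of degree six inside `A₈`
-/

set_option autoImplicit false

namespace Cfsg.Lib.Small.SecRankFour

open Subgroup
open Cfsg.Lib.Small.AltEight Cfsg.Lib.Small

/-- A subgroup of order forty-five of `A₆` would give commuting elements of order five and three. -/
theorem no_forty_five {G : Type*} [Group G] [Finite G] {f : G →* A8} (hf : Function.Injective f)
    (hG : Nat.card G = 45) {a : Fin 8} (ha : ∀ g : G, (f g).1 a = a) : False := by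
  classical
  haveI : Fact (Nat.Prime 5) := ⟨by norm_num⟩
  haveI : Fact (Nat.Prime 3) := ⟨by norm_num⟩
  obtain ⟨y, hy⟩ := exists_prime_orderOf_dvd_card' (G := G) 5 (by rw [hG]; norm_num)
  obtain ⟨z, hz⟩ := exists_prime_orderOf_dvd_card' (G := G) 3 (by rw [hG]; norm_num)
  obtain ⟨Q, hQ⟩ := (IsPGroup.of_card (p := 5) (n := 1)
    (by rw [Nat.card_zpowers, hy, pow_one] : Nat.card (zpowers y) = 5 ^ 1)).exists_le_sylow
  haveI : Subsingleton (Sylow 5 G) := by
    refine (Nat.card_eq_one_iff_unique.1 ?_).1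
    obtain ⟨hd5, hm5⟩ := sylow_facts (p := 5) (G := G) 1 9 (by rw [hG]; norm_num) (by norm_num : ¬ 5 ∣ 9)
    have := Nat.le_of_dvd (by norm_num) hd5
    interval_cases Nat.card (Sylow 5 G) <;> omega
  have hQeq : zpowers y = (Q : Subgroup G) := eq_of_le_of_card_ge hQ (by
    rw [Nat.card_zpowers, hy, card_sylow 1 9 (by rw [hG]; norm_num) (by norm_num) Q, pow_one])
  haveI hyn : (zpowers y).Normal := hQeq ▸ Sylow.normal_of_subsingleton Q
  let φ : G →* MulAut (zpowers y) := MulAut.conjNormal
  have hφ : φ z = 1 := by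
    rw [← orderOf_eq_one_iff]
    have h1 : orderOf (φ z) ∣ 3 := hz ▸ orderOf_map_dvd φ z
    have h2 : orderOf (φ z) ∣ 4 := by
      refine (_root_.orderOf_dvd_natCard _).trans ?_
      haveI := isCyclic_zpowers (g := y)
      rw [IsCyclic.card_mulAut, Nat.card_zpowers, hy]
      decide
    exact Nat.eq_one_of_dvd_coprimes (by norm_num : Nat.Coprime 3 4) h1 h2
  have hc : Commute y z := by
    have h := congrArg (fun α : MulAut (zpowers y) => ((α ⟨y, mem_zpowers y⟩ : zpowers y) : G)) hφ
    simp only [φ, MulAut.conjNormal_apply, MulAut.one_apply] at h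
    rw [mul_inv_eq_iff_eq_mul] at h
    exact h.symm
  exact no_fifteen (a := a) (by rw [orderOf_map f hf, hy]) (by rw [orderOf_map f hf, hz]) (ha y) (ha z)
    (hc.map f)

/-- A symmetric group of degree six in `A₈` is the stabiliser of two points. -/
theorem exists_pair {ι : Equiv.Perm (Fin 6) →* A8} (hι : Function.Injective ι) :
    ∃ F : Finset (Fin 8), F.card = 2 ∧ ∀ x : A8, (∀ b, x.1 b ∈ F ↔ b ∈ F) → x ∈ ι.range := by
  classical
  let N := alternatingGroup (Fin 6)
  haveI hNs : IsSimpleGroup N := alternatingGroup.isSimpleGroup (by simp)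
  have hN360 : Nat.card N = 360 := by rw [nat_card_alternatingGroup, Nat.card_fin]; rfl
  letI act : MulAction N (Fin 8) :=
    MulAction.compHom (Fin 8) ((alternatingGroup (Fin 8)).subtype.comp (ι.comp N.subtype))
  have hsmul : ∀ (n : N) (b : Fin 8), n • b = (ι n.1).1 b := fun n b => rfl
  have horb : ∀ b : Fin 8, (∀ n : N, n • b = b) ∨ (MulAction.orbit N b).ncard = 6 := by
    intro b
    by_cases hfix : ∀ n : N, n • b = b
    · exact Or.inl hfix
    push Not at hfix
    obtain ⟨n, hn⟩ := hfix
    set St := MulAction.stabilizer N b with hSt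
    have hne : St ≠ ⊤ := fun e => hn (MulAction.mem_stabilizer_iff.1 (e ▸ mem_top n : n ∈ St))
    have hidx : St.index = (MulAction.orbit N b).ncard := MulAction.index_stabilizer _ _
    have h8 : (MulAction.orbit N b).ncard ≤ 8 := (Set.ncard_le_card _).trans (by simp)
    have hdiv : St.index ∣ 360 := hN360 ▸ index_dvd_card St
    have hfac : 360 ∣ St.index.factorial := hN360 ▸ card_dvd_factorial hne
    have hr : St.index = 6 ∨ St.index = 8 := by
      have hdec : ∀ k ∈ Nat.divisors 360, k ≤ 8 → 360 ∣ k.factorial → k = 6 ∨ k = 8 := by decide +kernel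
      exact hdec _ (Nat.mem_divisors.2 ⟨hdiv, by norm_num⟩) (hidx ▸ h8) hfac
    rcases hr with hr | hr
    · exact Or.inr (hidx ▸ hr)
    · exfalso
      refine no_forty_five (f := (ι.comp N.subtype).comp St.subtype)
        ((hι.comp N.subtype_injective).comp St.subtype_injective) ?_ (a := b)
        (fun g => MulAction.mem_stabilizer_iff.1 g.2)
      have := card_mul_index St
      rw [hN360, hr] at this; omega
  obtain ⟨a, ha⟩ : ∃ a : Fin 8, ¬ ∀ n : N, n • a = a := by
    by_contra hall
    push Not at hall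
    haveI : Nontrivial N := IsSimpleGroup.toNontrivial
    obtain ⟨n, hn⟩ := exists_ne (1 : N)
    exact hn (hι.comp N.subtype_injective ((Subtype.ext (Equiv.ext fun b => hall b n)).trans
      (map_one (ι.comp N.subtype)).symm))
  set O := MulAction.orbit N a with hO
  have hO6 : O.ncard = 6 := (horb a).resolve_left ha
  set F : Finset (Fin 8) := Finset.univ.filter fun b => ∀ n : N, n • b = b with hF
  have hFO : ∀ b, b ∈ F ↔ b ∉ O := by
    intro b
    rw [hF, Finset.mem_filter]
    constructor
    · rintro ⟨-, hb⟩ hbO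
      have h1 : MulAction.orbit N b = O := MulAction.orbit_eq_iff.2 hbO
      have h2 : MulAction.orbit N b = {b} := Set.ext fun c =>
        ⟨fun ⟨n, hn⟩ => hn ▸ hb n, fun hc => (Set.mem_singleton_iff.1 hc) ▸ MulAction.mem_orbit_self (M := N) b⟩
      rw [← h1, h2, Set.ncard_singleton] at hO6
      norm_num at hO6
    · intro hbO
      refine ⟨Finset.mem_univ _, (horb b).resolve_right fun h6 => ?_⟩
      have hdisj : Disjoint O (MulAction.orbit N b) := by
        rw [Set.disjoint_left]
        intro c hc1 hc2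
        refine hbO ?_
        rw [hO, ← (MulAction.orbit_eq_iff.2 hc1 : MulAction.orbit N c = MulAction.orbit N a),
          (MulAction.orbit_eq_iff.2 hc2 : MulAction.orbit N c = MulAction.orbit N b)]
        exact MulAction.mem_orbit_self b
      have h12 := Set.ncard_union_eq hdisj
      have := Set.ncard_le_card (O ∪ MulAction.orbit N b)
      rw [h12, hO6, h6, Nat.card_fin] at this
      omega
  have hF2 : F.card = 2 := by
    have he : F = (O.toFinset)ᶜ := Finset.ext fun b => by
      rw [Finset.mem_compl, Set.mem_toFinset]; exact hFO b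
    rw [he, Finset.card_compl, Fintype.card_fin, ← Set.ncard_eq_toFinset_card' O, hO6]
  refine ⟨F, hF2, ?_⟩
  let S : Subgroup A8 :=
    { carrier := {x | ∀ b, x.1 b ∈ F ↔ b ∈ F}
      one_mem' := fun b => Iff.rfl
      mul_mem' := fun {x y} hx hy b => (hx _).trans (hy b)
      inv_mem' := fun {x} hx b => by
        have h := (hx (x⁻¹.1 b)).symm
        simpa using h }
  have hmapF : ∀ g : Equiv.Perm (Fin 6), ∀ b ∈ F, (ι g).1 b ∈ F := by
    intro g b hb
    rw [hF, Finset.mem_filter] at hb ⊢
    refine ⟨Finset.mem_univ _, fun n => ?_⟩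
    have h := hb.2 ⟨g⁻¹ * n.1 * g, by simpa using Normal.conj_mem inferInstance n.1 n.2 g⁻¹⟩
    rw [hsmul] at h ⊢
    have e : (ι n.1).1 ((ι g).1 b) = (ι g).1 ((ι (g⁻¹ * n.1 * g)).1 b) := by
      simp [map_mul, Equiv.Perm.mul_apply]
    rw [e, h]
  have hle : ι.range ≤ S := by
    rintro _ ⟨g, rfl⟩ b
    refine ⟨fun h => ?_, hmapF g b⟩
    simpa using hmapF g⁻¹ _ h
  let res : S → Equiv.Perm {b : Fin 8 // b ∉ F} := fun x => x.1.1.subtypePerm fun b => not_congr (x.2 b)
  have hres : Function.Injective res := by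
    intro x y hxy
    set z : A8 := x.1⁻¹ * y.1 with hz
    have hfixz : ∀ b, b ∉ F → z.1 b = b := fun b hb => by
      have h := congrArg Subtype.val (DFunLike.congr_fun hxy ⟨b, hb⟩)
      change x.1.1 b = y.1.1 b at h
      show x.1.1⁻¹ (y.1.1 b) = b
      rw [← h, Equiv.Perm.inv_def, Equiv.symm_apply_apply]
    have hsupp : z.1.support ⊆ F := fun b hb => by
      by_contra h
      exact Equiv.Perm.mem_support.1 hb (hfixz b h)
    have hle2 := (Finset.card_le_card hsupp).trans hF2.le
    have hne1 := Equiv.Perm.card_support_ne_one z.1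
    have hz1 : z.1 = 1 := by
      rcases (show z.1.support.card = 0 ∨ z.1.support.card = 2 by omega) with h | h
      · exact Equiv.Perm.card_support_eq_zero.1 h
      · obtain ⟨u, v, huv, e⟩ := Equiv.Perm.card_support_eq_two.1 h
        have h2 : Equiv.Perm.sign z.1 = 1 := z.2
        rw [e, Equiv.Perm.sign_swap huv] at h2
        exact absurd h2 (by decide)
    exact Subtype.ext (inv_mul_eq_one.1 (Subtype.ext hz1 : z = 1))
  have hc : Nat.card S ≤ Nat.card ι.range := by
    refine (Nat.card_le_card_of_injective res hres).trans ?_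
    rw [← Nat.card_congr (MonoidHom.ofInjective hι).toEquiv, Nat.card_perm, Nat.card_perm, Nat.card_fin,
      Nat.card_eq_fintype_card, Fintype.card_subtype_compl, Fintype.card_fin, Fintype.card_coe, hF2]
  intro x hx
  have := eq_of_le_of_card_ge hle hc
  exact this ▸ (show x ∈ S from hx)

/-- Three commuting involutions of the symmetric group of degree six inside `A₈`. -/
theorem exists_triple {ι : Equiv.Perm (Fin 6) →* A8} (hι : Function.Injective ι) :
    ∃ r : Fin 3 → A8, (∀ i, r i ∈ ι.range) ∧ (∀ i j, Commute (r i) (r j)) ∧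
      (∀ i, r i ^ 2 = 1 ∧ (r i).1.cycleType = {2, 2, 2, 2}) ∧
      (∀ i j, i ≠ j → (r i * r j).1.cycleType = {2, 2}) := by
  classical
  obtain ⟨F, hF, hmem⟩ := exists_pair hι
  let base : Fin 3 → A8 := ![
    ⟨Equiv.swap 0 1 * Equiv.swap 2 3 * Equiv.swap 4 5 * Equiv.swap 6 7, by
      simp [Equiv.Perm.mem_alternatingGroup, Equiv.Perm.sign_swap']⟩,
    ⟨Equiv.swap 0 2 * Equiv.swap 1 3 * Equiv.swap 4 5 * Equiv.swap 6 7, by
      simp [Equiv.Perm.mem_alternatingGroup, Equiv.Perm.sign_swap']⟩,
    ⟨Equiv.swap 0 3 * Equiv.swap 1 2 * Equiv.swap 4 5 * Equiv.swap 6 7, by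
      simp [Equiv.Perm.mem_alternatingGroup, Equiv.Perm.sign_swap']⟩]
  obtain ⟨γ, hγ⟩ : ∃ γ : Equiv.Perm (Fin 8), ∀ b, γ b ∈ F ↔ b ∈ ({6, 7} : Finset (Fin 8)) := by
    let e : {b // b ∈ ({6, 7} : Finset (Fin 8))} ≃ {b // b ∈ F} :=
      Fintype.equivOfCardEq (by rw [Fintype.card_coe, Fintype.card_coe, hF]; rfl)
    refine ⟨e.extendSubtype, fun b => ⟨fun h => ?_, fun h => e.extendSubtype_mem _ h⟩⟩
    by_contra hn
    exact e.extendSubtype_not_mem _ hn h
  have hb : ∀ i b, (base i).1 b ∈ ({6, 7} : Finset (Fin 8)) ↔ b ∈ ({6, 7} : Finset (Fin 8)) := by decide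
  let cj : Equiv.Perm (Fin 8) →* MulAut A8 := MulAut.conjNormal
  refine ⟨fun i => cj γ (base i), fun i => hmem _ fun b => ?_, fun i j => ?_, fun i => ⟨?_, ?_⟩,
    fun i j hij => ?_⟩
  · have e : (cj γ (base i)).1 b = γ ((base i).1 (γ⁻¹ b)) := by
      simp [cj, MulAut.conjNormal_apply, Equiv.Perm.mul_apply]
    rw [e, hγ, hb, ← hγ]
    simp
  · have : ∀ i j, base i * base j = base j * base i := by decide
    exact (show Commute (base i) (base j) from this i j).map (cj γ)
  · have : ∀ i, base i ^ 2 = 1 := by decide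
    rw [← map_pow, this, map_one]
  · have : ∀ i, (base i).1.cycleType = {2, 2, 2, 2} := by decide
    rw [show (cj γ (base i)).1 = γ * (base i).1 * γ⁻¹ from MulAut.conjNormal_apply _ _,
      Equiv.Perm.cycleType_conj, this]
  · have : ∀ i j, i ≠ j → (base i * base j).1.cycleType = {2, 2} := by decide
    rw [show cj γ (base i) * cj γ (base j) = cj γ (base i * base j) from (map_mul _ _ _).symm,
      show (cj γ (base i * base j)).1 = γ * (base i * base j).1 * γ⁻¹ from MulAut.conjNormal_apply _ _,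
      Equiv.Perm.cycleType_conj, this i j hij]

/-- A symmetric group of degree six inside `A₈`. -/
theorem exists_six : ∃ f : Equiv.Perm (Fin 6) →* A8, Function.Injective f := by
  classical
  let η : ℤˣ →* Equiv.Perm (Fin 2) :=
    { toFun := fun u => if u = 1 then 1 else Equiv.swap 0 1
      map_one' := if_pos rfl
      map_mul' := by decide }
  let h : Equiv.Perm (Fin 6) →* Equiv.Perm (Fin 6 ⊕ Fin 2) :=
    (Equiv.Perm.sumCongrHom (Fin 6) (Fin 2)).comp
      ((MonoidHom.id _).prod (η.comp Equiv.Perm.sign))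
  let k : Equiv.Perm (Fin 6) →* Equiv.Perm (Fin 8) := finSumFinEquiv.permCongrHom.toMonoidHom.comp h
  have hk : Function.Injective k := finSumFinEquiv.permCongrHom.injective.comp
    (Equiv.Perm.sumCongrHom_injective.comp fun a b hab => congrArg Prod.fst hab)
  have heven : ∀ σ, k σ ∈ alternatingGroup (Fin 8) := by
    intro σ
    have hη : ∀ u : ℤˣ, u * Equiv.Perm.sign (η u) = 1 := by decide
    rw [Equiv.Perm.mem_alternatingGroup]
    show Equiv.Perm.sign (finSumFinEquiv.permCongr (Equiv.Perm.sumCongr σ (η (Equiv.Perm.sign σ)))) = 1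
    rw [Equiv.Perm.sign_permCongr, Equiv.Perm.sign_sumCongr, hη]
  exact ⟨k.codRestrict _ heven, fun a b hab => hk (congrArg Subtype.val hab)⟩

end Cfsg.Lib.Small.SecRankFour
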